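import Cfsg.Agent.Lib.Fusion.Product.Main
import Cfsg.Agent.Lib.Fusion.ResidualReduction.Compose
import Cfsg.Agent.Lib.Fusion.PPowerNormal

/-!
Products of a normal subsystem with intermediate subgroups, and their transport.
-/

set_option autoImplicit false
set_option linter.unusedSectionVars false
set_option linter.unusedVariables false
set_option linter.style.haveILetI false

namespace Cfsg.FusionSystem.Balance

open Cfsg.FusionSystem.Product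
open Cfsg.FusionSystem.SubCent (isIso_self iterate_isIso)

universe u

variable {Ω : Type u} [Group Ω] {S T : Subgroup Ω} {F : FusionSystem S} {E : FusionSystem T}
  {P Q R R' U V : Subgroup Ω} {f g a : Ω → Ω} {p : ℕ}

/-- The maps of a transported system. -/
theorem factor_iso [Finite R] {α : R →* Ω} {G : FusionSystem R} {G' : FusionSystem R'}
    (hG' : G.IsFactorSystem ⊥ α G') (hαe : ∀ x : R, α x = a x) :
    (∀ P' Q' f', G'.IsIso P' Q' f' → ∃ P Q f, G.IsIso P Q f ∧ (∀ y, y ∈ P' ↔ ∃ x ∈ P, a x = y) ∧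
        (∀ y, y ∈ Q' ↔ ∃ x ∈ Q, a x = y) ∧ ∀ x ∈ P, f' (a x) = a (f x)) ∧
      ∀ P Q f P' Q', G.IsIso P Q f → (∀ y, y ∈ P' ↔ ∃ x ∈ P, a x = y) →
        (∀ y, y ∈ Q' ↔ ∃ x ∈ Q, a x = y) → ∃ f', G'.IsIso P' Q' f' ∧ ∀ x ∈ P, f' (a x) = a (f x) := by
  refine ⟨?_, ?_⟩
  · intro P' Q' f' hf'
    obtain ⟨φ', hφ', hr', he'⟩ := hf'
    obtain ⟨φ, hφ, he⟩ := hG'.down hφ'
    have hP' := G'.source_le hφ'
    have hφi := isIso_funOf hφ
    refine ⟨_, _, _, hφi, fun y => ⟨fun hy => ?_, ?_⟩, fun y => ⟨fun hy => ?_, ?_⟩, fun x hx => ?_⟩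
    · obtain ⟨x, hx, hxm, hxe⟩ := hG'.exists_preimage hP' ⟨y, hy⟩
      exact ⟨x, hxm, (hαe ⟨x, hx⟩).symm.trans hxe⟩
    · rintro ⟨x, hx, rfl⟩
      obtain ⟨hxR, hm⟩ := mem_preimageAlong.mp hx
      rwa [hαe ⟨x, hxR⟩] at hm
    · obtain ⟨⟨z, hz⟩, rfl⟩ := hr'.ge hy
      obtain ⟨x, hx, hxm, hxe⟩ := hG'.exists_preimage hP' ⟨z, hz⟩
      have hm : α ⟨x, hx⟩ ∈ P' := hxe ▸ hz
      refine ⟨φ ⟨x, hxm⟩, ⟨_, rfl⟩, ?_⟩
      rw [← hαe ⟨φ ⟨x, hxm⟩, G.apply_mem hφ _⟩]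
      exact ((he ⟨x, hxm⟩ hx hm).symm.trans (congrArg φ' (Subtype.ext hxe)))
    · rintro ⟨_, ⟨⟨x, hxm⟩, rfl⟩, rfl⟩
      obtain ⟨hxR, hm⟩ := mem_preimageAlong.mp hxm
      refine hr'.le ⟨⟨α ⟨x, hxR⟩, hm⟩, ?_⟩
      rw [he ⟨x, hxm⟩ hxR hm]
      exact hαe ⟨_, G.apply_mem hφ _⟩
    · obtain ⟨hxR, hm⟩ := mem_preimageAlong.mp hx
      have h1 : f' (α ⟨x, hxR⟩) = α ⟨φ ⟨x, hx⟩, G.apply_mem hφ _⟩ :=
        (he' ⟨_, hm⟩).symm.trans (he ⟨x, hx⟩ hxR hm)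
      rw [hαe, hαe] at h1
      rw [← funOf_apply φ ⟨x, hx⟩]
      exact h1
  · intro P Q f P' Q' hf hP' hQ'
    have hPR := hf.le_left
    obtain ⟨φ, hφ, hr, he⟩ := id hf
    obtain ⟨χ, hχ, hχe⟩ := hG'.up hφ
    have heq : imageAlong α P = P' := by
      ext y
      rw [hP']
      constructor
      · rintro ⟨x, hx, rfl⟩
        exact ⟨x, hx, (hαe x).symm⟩
      · rintro ⟨x, hx, rfl⟩
        exact ⟨⟨x, hPR hx⟩, hx, hαe _⟩
    subst heq
    have key : ∀ x (hx : x ∈ P), ∀ hm : a x ∈ imageAlong α P, χ ⟨a x, hm⟩ = a (f x) := by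
      intro x hx hm
      have hm' : α ⟨x, hPR hx⟩ ∈ imageAlong α P := ⟨⟨x, hPR hx⟩, hx, rfl⟩
      refine ((congrArg χ (Subtype.ext (hαe ⟨x, hPR hx⟩).symm)).trans
        (hχe ⟨x, hx⟩ (hPR hx) hm')).trans ?_
      rw [hαe]
      exact congrArg a (he ⟨x, hx⟩)
    refine ⟨funOf χ, ⟨χ, hχ, Subgroup.ext fun y => ?_, funOf_apply χ⟩, fun x hx => ?_⟩
    · rw [hQ']
      constructor
      · rintro ⟨⟨z, hz⟩, rfl⟩
        obtain ⟨x, hx, rfl⟩ := (hP' z).mp hz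
        exact ⟨f x, hf.mem hx, (key x hx hz).symm⟩
      · rintro ⟨q, hq, rfl⟩
        obtain ⟨x, hx, rfl⟩ := hf.surj hq
        exact ⟨⟨a x, (hP' _).mpr ⟨x, hx, rfl⟩⟩, key x hx _⟩
    · rw [← funOf_apply χ ⟨a x, (hP' _).mpr ⟨x, hx, rfl⟩⟩]
      exact key x hx _

/-- Copy of a system along an isomorphism. -/
theorem exists_transported [Finite R] [Fact p.Prime] (hR : IsPGroup p R) (G : FusionSystem R) (ha : F.IsIso R R' a) :
    ∃ G' : FusionSystem R', (G.IsSaturated p → G'.IsSaturated p) ∧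
      (∀ P' Q' f', G'.IsIso P' Q' f' → ∃ P Q f, G.IsIso P Q f ∧ (∀ y, y ∈ P' ↔ ∃ x ∈ P, a x = y) ∧
        (∀ y, y ∈ Q' ↔ ∃ x ∈ Q, a x = y) ∧ ∀ x ∈ P, f' (a x) = a (f x)) ∧
      ∀ P Q f P' Q', G.IsIso P Q f → (∀ y, y ∈ P' ↔ ∃ x ∈ P, a x = y) →
        (∀ y, y ∈ Q' ↔ ∃ x ∈ Q, a x = y) → ∃ f', G'.IsIso P' Q' f' ∧ ∀ x ∈ P, f' (a x) = a (f x) := by
  obtain ⟨α, hα, hαr, hαe⟩ := id ha
  obtain ⟨G', hG'⟩ := exists_isFactorSystem_bot G α (F.injective_of_mem hα) hαr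
  exact ⟨G', fun h => hG'.isSaturated hR h, factor_iso hG' hαe⟩

theorem perPrime_of_coprime {α : MulAut P} [Fact p.Prime] (he : ∀ x : P, ((α x : P) : Ω) = f x)
    (hα : (orderOf α).Coprime p) : PerPrime p P f :=
  ⟨orderOf α, (Nat.Prime.coprime_iff_not_dvd Fact.out).mp hα.symm, fun x hx => by
    rw [← coe_pow_apply he _ ⟨x, hx⟩, pow_orderOf_eq_one]; rfl⟩

section

variable [Finite S] [Fact p.Prime] (hc : Setup F p E)
include hc

theorem hyp_prodSys : (prodSys hc).hyperfocalSubgroup p ≤ T :=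
  hyperfocalSubgroup_le_iff.mpr fun P hP α hα hp x => by
    obtain ⟨f, hf, hfe⟩ := isIso_of_aut hP hα
    rw [hfe]
    exact amb_triv hc (hf.mono (prodSys_le_amb hc)) (perPrime_of_coprime hfe hp) x.2

/-- Periodic automorphisms of the product system of subgroups of `T` are in `E`. -/
theorem restr_prodSys (hP : P ≤ T) (hf : (prodSys hc).IsIso P P f) (hper : PerPrime p P f) : E.IsIso P P f := by
  have h1 := amb_restr hc (hf.mono (prodSys_le_amb hc)) hper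
  rwa [inf_eq_left.mpr hP] at h1

theorem esub_idx : E.HasPPowerIndexIn (prodSys hc) p := by
  refine ⟨sub_prodSys hc, hyp_prodSys hc, fun P hP => ?_⟩
  rw [pResidual, Subgroup.map_le_iff_le_comap, Subgroup.closure_le]
  intro γ hγ
  obtain ⟨f, hf, hfe⟩ := isIso_of_aut (hP.trans hc.le_S) γ.2
  obtain ⟨φ, hφ, -, hφe⟩ := restr_prodSys hc hP hf
    (perPrime_of_coprime hfe (by rw [Subgroup.orderOf_coe]; exact hγ))
  exact E.mem_autGroup_of_map hφ fun x => by rw [Subgroup.subtype_apply, hfe, hφe]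

theorem exists_pSys (hTR : T ≤ R) (hRS : R ≤ S) :
    ∃ D : FusionSystem R, D.IsSaturated p ∧ D.HasPPowerIndexIn (prodSys hc) p := by
  obtain ⟨D, hD, -⟩ := (prodSys_saturated hc).existsUnique_pPowerIndex hc.pgroup hRS ((hyp_prodSys hc).trans hTR)
  exact ⟨D, hD⟩

/-- The product system over an intermediate subgroup. -/
noncomputable def pSys (hTR : T ≤ R) (hRS : R ≤ S) : FusionSystem R := (exists_pSys hc hTR hRS).choose

variable (hTR : T ≤ R) (hRS : R ≤ S)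

theorem pSys_sat : (pSys hc hTR hRS).IsSaturated p := (exists_pSys hc hTR hRS).choose_spec.1

theorem pSys_idx : (pSys hc hTR hRS).HasPPowerIndexIn (prodSys hc) p := (exists_pSys hc hTR hRS).choose_spec.2

theorem pSys_sub : (pSys hc hTR hRS).IsSubsystemOf (prodSys hc) := (pSys_idx hc hTR hRS).1

theorem pSys_le_F : (pSys hc hTR hRS).IsSubsystemOf F := fun P φ hφ => prodSys_le_F hc P (pSys_sub hc hTR hRS P hφ)

/-- Periodic automorphisms in the product system are in every product system containing the subgroup. -/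
theorem pSys_per (hP : P ≤ R) (hf : (prodSys hc).IsIso P P f) (hper : PerPrime p P f) :
    (pSys hc hTR hRS).IsIso P P f :=
  index_iso_of_per (pSys_idx hc hTR hRS) hP hf hper

theorem over_pSys : Over F p E (pSys hc hTR hRS) := by
  haveI := hc.finT
  exact ⟨pSys_sat hc hTR hRS, pSys_le_F hc hTR hRS,
    hc.esat.le_pPowerIndex (inferInstance : Finite T) hc.pgroup (sub_prodSys hc) hc.le_S hTR _ (pSys_idx hc hTR hRS),
    (Layer.hyperfocal_le (pSys_sub hc hTR hRS)).trans (hyp_prodSys hc),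
    fun P f hP hf hper => restr_prodSys hc hP (hf.mono (pSys_sub hc hTR hRS)) hper⟩

theorem pSys_mono {hTR' : T ≤ R'} {hR'S : R' ≤ S} (h : R ≤ R') :
    (pSys hc hTR hRS).IsSubsystemOf (pSys hc hTR' hR'S) :=
  (pSys_sat hc hTR hRS).le_pPowerIndex (finite_of_le hRS) hc.pgroup (pSys_sub hc hTR hRS) hRS h _
    (pSys_idx hc hTR' hR'S)

/-- Transport of product systems by isomorphisms. -/
theorem stable {hTR' : T ≤ R'} {hR'S : R' ≤ S} (ha : F.IsIso R R' a) (hf : (pSys hc hTR hRS).IsIso P Q f)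
    {P' Q' : Subgroup Ω} (hP' : ∀ y, y ∈ P' ↔ ∃ x ∈ P, a x = y) (hQ' : ∀ y, y ∈ Q' ↔ ∃ x ∈ Q, a x = y) :
    ∃ f', (pSys hc hTR' hR'S).IsIso P' Q' f' ∧ ∀ x ∈ P, f' (a x) = a (f x) := by
  haveI := hc.finT
  haveI := finite_of_le hRS
  haveI := finite_of_le hR'S
  obtain ⟨G', hsat, hdown, hup⟩ := exists_transported (p := p) (hc.pgroup.to_le hRS) (pSys hc hTR hRS) ha
  have haT : F.IsIso T T a := by
    have := inter_iso hc.closed ha
    rwa [inf_eq_right.mpr hTR, inf_eq_right.mpr hTR'] at this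
  have hG'F : G'.IsSubsystemOf F := by
    intro A φ hφ
    obtain ⟨P₁, Q₁, f₁, hf₁, hA, hB, he⟩ := hdown _ _ _ (isIso_funOf hφ)
    obtain ⟨ai, hai, hail, -⟩ := ha.symm
    have hP₁ : P₁ ≤ R := hf₁.le_left
    have hai' : F.IsIso A P₁ ai := by
      refine hai.restrict' (fun y hy => ?_) fun x => ⟨fun hx => ⟨a x, (hA _).mpr ⟨x, hx, rfl⟩, hail x (hP₁ hx)⟩, ?_⟩
      · obtain ⟨x, hx, rfl⟩ := (hA y).mp hy
        exact ha.mem (hP₁ hx)
      · rintro ⟨y, hy, rfl⟩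
        obtain ⟨x, hx, rfl⟩ := (hA y).mp hy
        rwa [hail x (hP₁ hx)]
    have h3 := (hai'.comp (hf₁.mono (pSys_le_F hc hTR hRS))).comp (ha.restrict' hf₁.le_right hB)
    refine mem_hom_of_isIso h3 fun y => ?_
    obtain ⟨x, hx, hxy⟩ := (hA y).mp y.2
    rw [funOf_apply φ y, ← hxy, he x hx]
    show a (f₁ x) = a (f₁ (ai (a x)))
    rw [hail x (hP₁ hx)]
  have hincl : E.IsSubsystemOf G' := by
    intro A φ hφ
    have hA := E.source_le hφ
    have hB := E.range_le hφ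
    obtain ⟨ai, hai, hail, hair⟩ := haT.symm
    obtain ⟨A₁, -, -, hA₁⟩ := hai.restrict hA
    obtain ⟨B₁, -, -, hB₁⟩ := hai.restrict hB
    obtain ⟨f₁, hf₁, hf₁e⟩ := hc.inv.iso_transport hai le_rfl (isIso_funOf hφ) hA hB hA₁ hB₁
    obtain ⟨f₂, hf₂, hf₂e⟩ := hup _ _ _ A φ.range (hf₁.mono (over_pSys hc hTR hRS).incl)
      (fun y => ⟨fun hy => ⟨ai y, (hA₁ _).mpr ⟨y, hy, rfl⟩, hair y (hA hy)⟩, by
        rintro ⟨x, hx, rfl⟩
        obtain ⟨y, hy, rfl⟩ := (hA₁ x).mp hx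
        rwa [hair y (hA hy)]⟩)
      (fun y => ⟨fun hy => ⟨ai y, (hB₁ _).mpr ⟨y, hy, rfl⟩, hair y (hB hy)⟩, by
        rintro ⟨x, hx, rfl⟩
        obtain ⟨y, hy, rfl⟩ := (hB₁ x).mp hx
        rwa [hair y (hB hy)]⟩)
    refine mem_hom_of_isIso hf₂ fun y => ?_
    have h1 := hf₂e (ai y) ((hA₁ _).mpr ⟨y, y.2, rfl⟩)
    rw [hair y (hA y.2), hf₁e y y.2, hair _ (hB ((isIso_funOf hφ).mem y.2)), ← funOf_apply φ y] at h1
    exact h1.symm
  have hdownper : ∀ (A : Subgroup Ω) (f' : Ω → Ω), G'.IsIso A A f' → PerPrime p A f' → ∃ P₁ f₁,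
      (pSys hc hTR hRS).IsIso P₁ P₁ f₁ ∧ PerPrime p P₁ f₁ ∧ (∀ y, y ∈ A ↔ ∃ x ∈ P₁, a x = y) ∧
        ∀ x ∈ P₁, f' (a x) = a (f₁ x) := by
    intro A f' hf' hper
    obtain ⟨P₁, Q₁, f₁, hf₁, hA, hB, he⟩ := hdown _ _ _ hf'
    have hPQ : Q₁ = P₁ := by
      ext x
      constructor
      · intro hx
        obtain ⟨z, hz, e⟩ := (hA _).mp ((hB _).mpr ⟨x, hx, rfl⟩)
        exact ha.inj (hf₁.le_left hz) (hf₁.le_right hx) e ▸ hz
      · intro hx
        obtain ⟨z, hz, e⟩ := (hB _).mp ((hA _).mpr ⟨x, hx, rfl⟩)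
        exact ha.inj (hf₁.le_right hz) (hf₁.le_left hx) e ▸ hz
    subst hPQ
    obtain ⟨n, hn, hp⟩ := hper
    refine ⟨_, f₁, hf₁, ⟨n, hn, fun x hx => ?_⟩, hA, he⟩
    have h2 := iterate_transport (P := Q₁) (f := f₁) (g := f') (χ := a) (fun y hy => hf₁.mem hy) he n hx
    exact ha.inj (hf₁.le_left h2.2) (hf₁.le_left hx) (h2.1.symm.trans (hp _ ((hA _).mpr ⟨x, hx, rfl⟩)))
  have hover : Over F p E G' := by
    refine ⟨hsat (pSys_sat hc hTR hRS), hG'F, hincl, hyperfocalSubgroup_le_iff.mpr fun A hA α hα hp x => ?_,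
      fun A f' hA hf' hper => ?_⟩
    · obtain ⟨f', hf', hfe⟩ := isIso_of_aut hA hα
      obtain ⟨P₁, f₁, hf₁, hper₁, hA₁, he⟩ := hdownper _ _ hf' (perPrime_of_coprime hfe hp)
      obtain ⟨z, hz, hzx⟩ := (hA₁ _).mp x.2
      rw [hfe, ← hzx, he z hz, ← ha.apply_inv (hf₁.le_left hz),
        ← ha.apply_mul (R.inv_mem (hf₁.le_left hz)) (hf₁.le_left (hf₁.mem hz))]
      exact haT.mem ((over_pSys hc hTR hRS).hyp (hyp_mem_of_per hf₁ hper₁ hz))
    · obtain ⟨P₁, f₁, hf₁, hper₁, hA₁, he⟩ := hdownper _ _ hf' hper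
      have hP₁T : P₁ ≤ T := fun z hz => by
        have h1 : a z ∈ T := hA ((hA₁ _).mpr ⟨z, hz, rfl⟩)
        obtain ⟨w, hw, e⟩ := haT.surj h1
        exact ha.inj (hTR hw) (hf₁.le_left hz) e ▸ hw
      obtain ⟨f₂, hf₂, hf₂e⟩ := hc.inv.iso_transport haT le_rfl ((over_pSys hc hTR hRS).restr _ _ hP₁T hf₁ hper₁)
        hP₁T hP₁T hA₁ hA₁
      refine hf₂.congr fun y hy => ?_
      obtain ⟨z, hz, rfl⟩ := (hA₁ y).mp hy
      rw [he z hz, hf₂e z hz]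
  obtain ⟨f', hf', he⟩ := hup _ _ _ _ _ hf hP' hQ'
  exact ⟨f', hf'.mono (show G'.IsSubsystemOf (pSys hc hTR' hR'S) from
    fun A φ hφ => hover.le hc hR'S hTR' (over_pSys hc hTR' hR'S) A hφ), he⟩

/-- The product system over a normal intermediate subgroup is normal. -/
theorem pSys_normal {hTR' : T ≤ R'} {hR'S : R' ≤ S} (h : R' ≤ R) (hn : R ≤ Subgroup.normalizer (R' : Set Ω)) :
    (pSys hc hTR' hR'S).IsNormalIn (pSys hc hTR hRS) p := by
  haveI := finite_of_le hRS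
  refine (pSys_sat hc hTR hRS).isNormalIn_of_pPowerIndex (hc.pgroup.to_le hRS) (pSys_sat hc hTR' hR'S) h
    ((Subgroup.normal_subgroupOf_iff_le_normalizer h).mpr hn)
    ⟨pSys_mono hc hTR' hR'S h, (over_pSys hc hTR hRS).hyp.trans hTR', fun P hP => ?_⟩
  rw [pResidual, Subgroup.map_le_iff_le_comap, Subgroup.closure_le]
  intro γ hγ
  obtain ⟨f, hf, hfe⟩ := isIso_of_aut (hP.trans h) γ.2
  obtain ⟨φ, hφ, -, hφe⟩ := pSys_per hc hTR' hR'S hP (hf.mono (pSys_sub hc hTR hRS))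
    (perPrime_of_coprime hfe (by rw [Subgroup.orderOf_coe]; exact hγ))
  exact (pSys hc hTR' hR'S).mem_autGroup_of_map hφ fun x => by rw [Subgroup.subtype_apply, hfe, hφe]

/-- One step of the decomposition. -/
theorem split_step {hTR' : T ≤ R'} {hR'S : R' ≤ S} (h : R' ≤ R) (hn : R ≤ Subgroup.normalizer (R' : Set Ω))
    (hP : P ≤ R') (hf : (pSys hc hTR hRS).IsIso P Q f) :
    ∃ r ∈ R, ∃ (d : Ω → Ω) (Q₀ : Subgroup Ω), (pSys hc hTR' hR'S).IsIso P Q₀ d ∧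
      ∀ x ∈ P, f x = r * d x * r⁻¹ := by
  haveI := finite_of_le hRS
  have hN := pSys_normal hc hTR hRS (hTR' := hTR') (hR'S := hR'S) h hn
  obtain ⟨φ, hφ, hr, hφe⟩ := id hf
  obtain ⟨α, hα, φ₀, hφ₀, he⟩ := hN.1.2.2.2.2.2 P hP φ hφ
  obtain ⟨-, T0, hT0⟩ := (pSys_sat hc hTR hRS).isFullyAutomized_of_isFullyNormalized (hc.pgroup.to_le hRS)
    (isFullyNormalized_of_le_normalizer h hn)
  haveI := finite_autGroup (F := pSys hc hTR hRS) h
  have h1 : (⟨α, hα⟩ : (pSys hc hTR hRS).autGroup R') ∈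
      (T0 : Subgroup ((pSys hc hTR hRS).autGroup R')) ⊔ pResidual p ((pSys hc hTR hRS).autGroup R') := by
    rw [CfsgLib.Transfer.sylow_sup_pResidual T0]
    exact Subgroup.mem_top _
  obtain ⟨t, ht, k, hk, htk⟩ := Subgroup.mem_sup_of_normal_right.mp h1
  rw [hT0, Subgroup.mem_subgroupOf] at ht
  obtain ⟨r, hr', -, hte⟩ := mem_autInducedBy_iff.mp ht
  have hkE : (k : MulAut R') ∈ (pSys hc hTR' hR'S).autGroup R' :=
    (show (pResidual p ((pSys hc hTR hRS).autGroup R')).map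
        ((pSys hc hTR hRS).autGroup R').subtype ≤ (pSys hc hTR' hR'S).autGroup R' by
      rw [pResidual, Subgroup.map_le_iff_le_comap, Subgroup.closure_le]
      intro γ hγ
      obtain ⟨g, hg, hge⟩ := isIso_of_aut h γ.2
      obtain ⟨ψ, hψ, -, hψe⟩ := pSys_per hc hTR' hR'S le_rfl (hg.mono (pSys_sub hc hTR hRS))
        (perPrime_of_coprime hge (by rw [Subgroup.orderOf_coe]; exact hγ))
      exact (pSys hc hTR' hR'S).mem_autGroup_of_map hψ fun x => by rw [Subgroup.subtype_apply, hge, hψe])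
      ⟨k, hk, rfl⟩
  obtain ⟨kf, hkf, hkfe⟩ := isIso_of_aut le_rfl hkE
  obtain ⟨Q₀, hQ₀, -, -⟩ := hkf.restrict (show φ₀.range ≤ R' from (pSys hc hTR' hR'S).range_le hφ₀)
  refine ⟨r, hr', _, Q₀, (isIso_funOf hφ₀).comp hQ₀, fun x hx => ?_⟩
  have hxR : φ₀ ⟨x, hx⟩ ∈ R' := (pSys hc hTR' hR'S).apply_mem hφ₀ _
  rw [← hφe ⟨x, hx⟩, he ⟨x, hx⟩ hxR, ← funOf_apply φ₀ ⟨x, hx⟩]
  have h2 : α = (t : MulAut R') * (k : MulAut R') := (congrArg Subtype.val htk).symm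
  rw [h2, MulAut.mul_apply, hte, hkfe]

omit hTR hRS

/-- A map of a product system on a smaller intermediate subgroup, as a map there followed by a conjugation. -/
theorem split {hTR' : T ≤ R'} {hR'S : R' ≤ S} :
    ∀ (R : Subgroup Ω) (hTR : T ≤ R) (hRS : R ≤ S), R' ≤ R → ∀ (P Q : Subgroup Ω) (f : Ω → Ω), P ≤ R' →
      (pSys hc hTR hRS).IsIso P Q f → ∃ r ∈ R, ∃ (d : Ω → Ω) (Q₀ : Subgroup Ω),
        (pSys hc hTR' hR'S).IsIso P Q₀ d ∧ ∀ x ∈ P, f x = r * d x * r⁻¹ := by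
  intro R hTR hRS h P Q f hP hf
  induction hk : Nat.card R - Nat.card R' using Nat.strong_induction_on generalizing R' with
  | _ k ih =>
    haveI := finite_of_le hRS
    rcases eq_or_lt_of_le h with rfl | hlt
    · exact ⟨1, R'.one_mem, f, Q, hf, fun x _ => by simp⟩
    have hlt' : R' < normalizerIn R R' := lt_normalizerIn (hc.pgroup.to_le hRS) hlt
    have hNR : normalizerIn R R' ≤ R := inf_le_left
    haveI := finite_of_le (hNR.trans hRS)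
    have hcard : Nat.card R' < Nat.card (normalizerIn R R') :=
      Set.Finite.card_lt_card (Set.toFinite _) hlt'
    have hle' : Nat.card (normalizerIn R R') ≤ Nat.card R := Subgroup.card_le_of_le hNR
    obtain ⟨r, hr, d, Q₁, hd, hde⟩ := ih (Nat.card R - Nat.card (normalizerIn R R')) (by omega)
      (R' := normalizerIn R R') (hTR' := hTR'.trans hlt'.le) (hR'S := hNR.trans hRS) hNR (hP.trans hlt'.le) rfl
    obtain ⟨r', hr', d', Q₀, hd', hde'⟩ := split_step hc _ _ (hTR' := hTR') (hR'S := hR'S) hlt'.le inf_le_right hP hd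
    refine ⟨r * r', R.mul_mem hr (hNR hr'), d', Q₀, hd', fun x hx => ?_⟩
    rw [hde x hx, hde' x hx]
    group

end

end Cfsg.FusionSystem.Balance
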