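import Cfsg.Agent.Lib.Fusion.Balance.Transport
import Cfsg.Agent.Lib.Fusion.Relative
import Cfsg.Agent.Lib.Fusion.FocalProper
import Cfsg.Agent.Lib.Fusion.Invariant
import Cfsg.Agent.Lib.Fusion.Product.Normalizer

/-!
The local subsystem of a normal subsystem at a fully normalised subgroup.
-/

set_option autoImplicit false
set_option linter.unusedSectionVars false
set_option linter.unusedVariables false
set_option linter.style.haveILetI false

namespace Cfsg.FusionSystem.Balance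

open Cfsg.FusionSystem.Product
open Cfsg.FusionSystem.SubCent (isIso_self iterate_isIso)

universe u

variable {Ω : Type u} [Group Ω] {S T W V : Subgroup Ω} {F : FusionSystem S} {E : FusionSystem T}
  {N G : FusionSystem W} {M : FusionSystem V} {P Q A B C X : Subgroup Ω} {f g h k : Ω → Ω} {p : ℕ}

/-- The maps of `M` inside `P` are carried by `f` to maps of `M`. -/
def Carries (M : FusionSystem V) (P : Subgroup Ω) (f : Ω → Ω) : Prop :=
  ∀ (A B A' B' : Subgroup Ω) (e : Ω → Ω), A ≤ P → B ≤ P → M.IsIso A B e →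
    (∀ y, y ∈ A' ↔ ∃ x ∈ A, f x = y) → (∀ y, y ∈ B' ↔ ∃ x ∈ B, f x = y) →
      ∃ e', M.IsIso A' B' e' ∧ ∀ x ∈ A, e' (f x) = f (e x)

theorem Carries.congr (h : Carries M P f) (he : ∀ x ∈ P, g x = f x) : Carries M P g := by
  intro A B A' B' e hA hB hi hA' hB'
  obtain ⟨e', hi', hee⟩ := h A B A' B' e hA hB hi
    (fun y => (hA' y).trans ⟨fun ⟨x, hx, q⟩ => ⟨x, hx, (he x (hA hx)).symm.trans q⟩,
      fun ⟨x, hx, q⟩ => ⟨x, hx, (he x (hA hx)).trans q⟩⟩)
    (fun y => (hB' y).trans ⟨fun ⟨x, hx, q⟩ => ⟨x, hx, (he x (hB hx)).symm.trans q⟩,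
      fun ⟨x, hx, q⟩ => ⟨x, hx, (he x (hB hx)).trans q⟩⟩)
  exact ⟨e', hi', fun x hx => by rw [he x (hA hx), hee x hx, he _ (hB (hi.mem hx))]⟩

theorem Carries.comp (hf : ∀ x ∈ P, f x ∈ Q) (hi : N.IsIso P C f) (h : Carries M P f) (h' : Carries M Q g) :
    Carries M P (fun x => g (f x)) := by
  intro A B A'' B'' e hA hB he hA'' hB''
  obtain ⟨A', -, -, hA'⟩ := hi.restrict hA
  obtain ⟨B', -, -, hB'⟩ := hi.restrict hB
  obtain ⟨e', he', h1⟩ := h A B A' B' e hA hB he hA' hB'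
  obtain ⟨e'', he'', h2⟩ := h' A' B' A'' B'' e'
    (fun y hy => by obtain ⟨x, hx, rfl⟩ := (hA' y).mp hy; exact hf x (hA hx))
    (fun y hy => by obtain ⟨x, hx, rfl⟩ := (hB' y).mp hy; exact hf x (hB hx)) he'
    (fun y => (hA'' y).trans ⟨fun ⟨x, hx, q⟩ => ⟨f x, (hA' _).mpr ⟨x, hx, rfl⟩, q⟩, fun ⟨z, hz, q⟩ => by
      obtain ⟨x, hx, rfl⟩ := (hA' z).mp hz; exact ⟨x, hx, q⟩⟩)
    (fun y => (hB'' y).trans ⟨fun ⟨x, hx, q⟩ => ⟨f x, (hB' _).mpr ⟨x, hx, rfl⟩, q⟩, fun ⟨z, hz, q⟩ => by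
      obtain ⟨x, hx, rfl⟩ := (hB' z).mp hz; exact ⟨x, hx, q⟩⟩)
  refine ⟨e'', he'', fun x hx => ?_⟩
  show e'' (g (f x)) = g (f (e x))
  rw [h2 _ ((hA' _).mpr ⟨x, hx, rfl⟩), h1 x hx]

/-- The maps of `N` carrying the maps of `M` in both directions. -/
def carrySys (N : FusionSystem W) (M : FusionSystem V)
    (hN : ∀ (P : Subgroup Ω) (s : Ω), P ≤ W → s ∈ W → Carries M P (fun x => s * x * s⁻¹)) : FusionSystem W where
  Hom P := {φ | φ ∈ N.Hom P ∧ Carries M P (funOf φ) ∧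
    ∀ k : Ω → Ω, (∀ x ∈ P, k (funOf φ x) = x) → Carries M φ.range k}
  le_of_mem h := N.le_of_mem h.1
  injective_of_mem h := N.injective_of_mem h.1
  conj_mem := by
    intro P s hP hs
    have he : ∀ x ∈ P, funOf (conjHom P s) x = s * x * s⁻¹ := fun x hx => (funOf_apply (conjHom P s) ⟨x, hx⟩).symm
    refine ⟨N.conj_mem hP hs, (hN P s hP hs).congr he, fun k hk => ?_⟩
    refine (hN _ s⁻¹ (N.range_le (N.conj_mem hP hs)) (W.inv_mem hs)).congr ?_
    rintro _ ⟨x, rfl⟩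
    rw [funOf_apply (conjHom P s) x, hk x x.2, he x x.2]
    group
  comp_mem := by
    intro P Q φ ψ hφ hψ h
    have he : ∀ x ∈ P, funOf (ψ.comp (φ.codRestrict Q h)) x = funOf ψ (funOf φ x) := fun x hx => by
      rw [← funOf_apply (ψ.comp (φ.codRestrict Q h)) ⟨x, hx⟩, ← funOf_apply φ ⟨x, hx⟩]
      exact funOf_apply ψ ⟨φ ⟨x, hx⟩, h _⟩
    have hm : ∀ x ∈ P, funOf φ x ∈ Q := fun x hx => by rw [← funOf_apply φ ⟨x, hx⟩]; exact h _
    refine ⟨N.comp_mem hφ.1 hψ.1 h, ((hφ.2.1).comp hm (isIso_funOf hφ.1) hψ.2.1).congr he, fun k hk => ?_⟩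
    obtain ⟨i, hi, hil, -⟩ := (isIso_funOf hφ.1).symm
    obtain ⟨j, hj, hjl, -⟩ := (isIso_funOf hψ.1).symm
    set χ := ψ.comp (φ.codRestrict Q h)
    have hr : χ.range ≤ ψ.range := fun y ⟨x, hx⟩ => ⟨_, hx⟩
    obtain ⟨R', hR', -, hR'm⟩ := hj.restrict hr
    have hjm : ∀ y ∈ χ.range, j y ∈ φ.range := by
      rintro _ ⟨x, rfl⟩
      rw [funOf_apply χ x, he x x.2, hjl _ (hm x x.2)]
      exact (isIso_funOf hφ.1).mem x.2
    have hc1 : Carries M χ.range j := fun A B A' B' e hA hB => hψ.2.2 j hjl A B A' B' e (hA.trans hr) (hB.trans hr)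
    refine (hc1.comp hjm hR' (hφ.2.2 i hil)).congr ?_
    rintro _ ⟨x, rfl⟩
    rw [funOf_apply χ x, hk x x.2, he x x.2]
    show (x : Ω) = i (j (funOf ψ (funOf φ x)))
    rw [hjl _ (hm x x.2), hil x x.2]
  inv_mem := by
    intro P φ hφ
    obtain ⟨ψ, hψ, he⟩ := N.inv_mem hφ.1
    have hk : ∀ x ∈ P, funOf ψ (funOf φ x) = x := fun x hx => by
      rw [← funOf_apply φ ⟨x, hx⟩]
      exact (funOf_apply ψ ⟨φ ⟨x, hx⟩, ⟨x, hx⟩, rfl⟩).symm.trans (he _)
    refine ⟨ψ, ⟨hψ, hφ.2.2 _ hk, fun k hk' => ?_⟩, he⟩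
    have hsub : ψ.range ≤ P := by
      rintro _ ⟨⟨_, x, rfl⟩, rfl⟩
      rw [he]
      exact x.2
    intro A B A' B' e hA hB
    refine (hφ.2.1.congr fun x hx => ?_) A B A' B' e (hA.trans hsub) (hB.trans hsub)
    have h1 := hk' _ ((isIso_funOf hφ.1).mem hx)
    rwa [hk x hx] at h1

theorem mem_carrySys {hN : ∀ (P : Subgroup Ω) (s : Ω), P ≤ W → s ∈ W → Carries M P (fun x => s * x * s⁻¹)}
    {φ : P →* Ω} (hf : N.IsIso P Q f) (he : ∀ x : P, φ x = f x) (h1 : Carries M P f)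
    (h2 : ∀ k, N.IsIso Q P k → (∀ x ∈ P, k (f x) = x) → Carries M Q k) :
    φ ∈ (carrySys N M hN).Hom P := by
  have hr : φ.range = Q := by
    obtain ⟨φ', -, hr', he'⟩ := id hf
    rwa [show φ = φ' from MonoidHom.ext fun x => (he x).trans (he' x).symm]
  have e : ∀ x ∈ P, funOf φ x = f x := fun x hx => (funOf_apply φ ⟨x, hx⟩).symm.trans (he ⟨x, hx⟩)
  refine ⟨mem_hom_of_isIso hf he, h1.congr e, fun k hk => ?_⟩
  obtain ⟨i, hi, hil, -⟩ := hf.symm
  rw [hr]
  refine (h2 i hi hil).congr fun y hy => ?_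
  obtain ⟨x, hx, rfl⟩ := hf.surj hy
  rw [hil x hx, ← e x hx, hk x hx]

/-- Maps of a system in which `M` is invariant carry it. -/
theorem carries_of_invariant (hM : M.IsInvariantIn G) (hf : G.IsIso P Q f) : Carries M P f := by
  intro A B A' B' e hA hB he hA' hB'
  obtain ⟨R, hR, -, -⟩ := hf.restrict (inf_le_left : P ⊓ V ≤ P)
  exact hM.iso_transport hR inf_le_right he (le_inf hA he.le_left) (le_inf hB he.le_right) hA' hB'

variable [Finite S] [Fact p.Prime]

/-- The periodic part of an extension. -/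
theorem exists_per_ext (hQS : Q ≤ S) (hf : F.IsIso Q Q f) (hP : P ≤ Q) (hper : PerPrime p P f)
    (hm : ∀ x ∈ P, f x ∈ P) : ∃ j : ℕ, PerPrime p Q f^[j] ∧ ∀ x ∈ P, f^[j] x = f x := by
  haveI := finite_of_le hQS
  obtain ⟨α, hα, he⟩ := hf.toAut
  haveI := finite_autGroup (F := F) hQS
  obtain ⟨e, hne⟩ := SubCent.prime_part (p := p) (⟨α, hα⟩ : F.autGroup Q)
  obtain ⟨j, hj⟩ := hper.exists_mul e
  refine ⟨p ^ e * j, ⟨orderOf ((⟨α, hα⟩ : F.autGroup Q) ^ p ^ e), hne, fun x hx => ?_⟩, hj⟩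
  rw [← Function.iterate_mul, ← coe_pow_apply he _ ⟨x, hx⟩]
  have h1 : α ^ (p ^ e * j * orderOf ((⟨α, hα⟩ : F.autGroup Q) ^ p ^ e)) = 1 := by
    have h2 : ((⟨α, hα⟩ : F.autGroup Q) ^ p ^ e) ^ (orderOf ((⟨α, hα⟩ : F.autGroup Q) ^ p ^ e) * j) = 1 := by
      rw [pow_mul, pow_orderOf_eq_one, one_pow]
    have h3 := congrArg (fun z : F.autGroup Q => (z : MulAut Q)) h2
    rw [← pow_mul, SubmonoidClass.coe_pow, OneMemClass.coe_one] at h3
    rw [mul_assoc, mul_comm j]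
    exact h3
  rw [h1]
  rfl

variable (hc : Setup F p E)
include hc

/-- The local subsystem at a fully normalised subgroup. -/
theorem exists_local (hX : F.IsFullyNormalized X) :
    ∃ M : FusionSystem (normalizerIn T X), M.IsNormalIn (F.normalizerSystem X hX.1) p ∧ M.IsSubsystemOf E := by
  classical
  have hS := hc.pgroup
  have hXS := hX.1
  let N := F.normalizerSystem X hXS
  let NG := (prodSys hc).normalizerSystem X hXS
  have hWS : (normalizerIn S X) ≤ S := normalizerIn_le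
  have hVW : (normalizerIn T X) ≤ (normalizerIn S X) := inf_le_inf_right _ hc.le_S
  have hVT : (normalizerIn T X) ≤ T := inf_le_left
  have hXW : X ≤ (normalizerIn S X) := le_normalizerIn hXS
  haveI := finite_of_le hWS
  haveI := finite_of_le (hVW.trans hWS)
  haveI := hc.finT
  have hW := hS.to_le hWS
  have hNs : N.IsSaturated p := hc.sat.isSaturated_normalizerSystem hS hX
    (F.normalizerSystem_isNormalizerSystem X hXS)
  have hXG : (prodSys hc).IsFullyNormalized X :=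
    ⟨hXS, fun R ⟨φ, hφ, hr⟩ => hX.2 R ⟨φ, prodSys_le_F hc X hφ, hr⟩⟩
  have hNGs : NG.IsSaturated p := (prodSys_saturated hc).isSaturated_normalizerSystem hS hXG
    ((prodSys hc).normalizerSystem_isNormalizerSystem X hXS)
  have hNGN : NG.IsSubsystemOf N := fun P φ ⟨h1, h2, h3, ψ, hψ, h4, h5⟩ =>
    ⟨prodSys_le_F hc P h1, h2, h3, ψ, prodSys_le_F hc _ hψ, h4, h5⟩
  have hNGG : NG.IsSubsystemOf (prodSys hc) := normalizerSystem_le hXS
  have hhyp : NG.hyperfocalSubgroup p ≤ (normalizerIn T X) := fun x hx =>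
    ⟨(Layer.hyperfocal_le hNGG).trans (hyp_prodSys hc) hx, (hyperfocalSubgroup_le hx).2⟩
  have hVn : (normalizerIn S X) ≤ Subgroup.normalizer ((normalizerIn T X) : Set Ω) := fun s hs => by
    refine Subgroup.mem_normalizer_fintype fun x hx => ⟨hc.conj_mem hs.1 hx.1, ?_⟩
    exact Subgroup.mul_mem _ (Subgroup.mul_mem _ hs.2 hx.2) (Subgroup.inv_mem _ hs.2)
  obtain ⟨M, ⟨hMs, hMidx⟩, -⟩ := hNGs.existsUnique_pPowerIndex hW hVW hhyp
  have hMn : M.IsNormalIn NG p := hNGs.isNormalIn_of_pPowerIndex hW hMs hVW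
    ((Subgroup.normal_subgroupOf_iff_le_normalizer hVW).mpr hVn) hMidx
  have hME : M.IsSubsystemOf E := hMs.le_pPowerIndex (inferInstance : Finite ↥(normalizerIn T X)) hS
    (fun P φ hφ => hNGG P (hMidx.1 P hφ)) (hVW.trans hWS) hVT E (esub_idx hc)
  have hVc : N.StronglyClosed (normalizerIn T X) := ⟨hVW, fun R hR φ hφ x =>
    ⟨hc.closed.2 R (hR.trans hVT) φ hφ.1 x, (hφ.2.2.1 x).2⟩⟩
  have hconj : ∀ (P : Subgroup Ω) (s : Ω), P ≤ (normalizerIn S X) → s ∈ (normalizerIn S X) → Carries M P (fun x => s * x * s⁻¹) :=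
    fun P s hP hs => carries_of_invariant hMn.1.2.2 (isIso_conj (E := NG) hP hs)
  have hXnorm : N.IsNormal X := (F.normalizerSystem_isNormalizerSystem X hXS).isNormal_self hXS
  -- automorphisms of subgroups containing `(normalizerIn T X) X`
  have hbigV : ∀ {Q : Subgroup Ω} {f : Ω → Ω}, (normalizerIn T X) ≤ Q → X ≤ Q → N.IsIso Q Q f → Carries M Q f := by
    intro Q f hVQ hXQ hf
    have hfV : N.IsIso (normalizerIn T X) (normalizerIn T X) f := by
      have h1 := inter_iso hVc hf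
      rwa [inf_eq_right.mpr hVQ] at h1
    obtain ⟨G', hsat, hdown, hup⟩ := exists_transported (p := p) (hW.to_le hVW) M hfV
    have hle : G' ≤ M := by
      refine le_of_pprime (hW.to_le hVW) (hsat hMs) fun P' e' _ he' hper' => ?_
      obtain ⟨P, P₂, e, he, hP, hP₂, hee⟩ := hdown _ _ _ he'
      have hPV : P ≤ (normalizerIn T X) := he.le_left
      have hPP : P₂ = P := by
        ext x
        constructor
        · intro hx
          obtain ⟨z, hz, q⟩ := (hP _).mp ((hP₂ _).mpr ⟨x, hx, rfl⟩)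
          exact hfV.inj (hPV hz) (he.le_right hx) q ▸ hz
        · intro hx
          obtain ⟨z, hz, q⟩ := (hP₂ _).mp ((hP _).mpr ⟨x, hx, rfl⟩)
          exact hfV.inj (he.le_right hz) (hPV hx) q ▸ hz
      subst hPP
      have hper : PerPrime p P₂ e := by
        obtain ⟨n, hn, hp⟩ := hper'
        refine ⟨n, hn, fun x hx => ?_⟩
        have h2 := iterate_transport (P := P₂) (f := e) (g := e') (χ := f) (fun y hy => he.mem hy) hee n hx
        exact hfV.inj (hPV h2.2) (hPV hx) (h2.1.symm.trans (hp _ ((hP _).mpr ⟨x, hx, rfl⟩)))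
      -- extend to `P X`
      obtain ⟨φ, ⟨hφG, -, -, ψ, hψ, hψe, hψX⟩, hφr, hφe⟩ := he.mono hMidx.1
      have hψr : ψ.range = P₂ ⊔ X := by rw [map_inclusion_sup ψ hψX hψe, hφr]
      have hψi : (prodSys hc).IsIso (P₂ ⊔ X) (P₂ ⊔ X) (funOf ψ) := by
        have h := isIso_funOf hψ
        rwa [hψr] at h
      have hψP : ∀ x ∈ P₂, funOf ψ x = e x := fun x hx => by
        rw [← funOf_apply ψ ⟨x, Subgroup.mem_sup_left hx⟩, ← hφe ⟨x, hx⟩]
        exact hψe ⟨x, hx⟩
      have hψXm : ∀ x ∈ X, funOf ψ x ∈ X := fun x hx => by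
        rw [← funOf_apply ψ ⟨x, Subgroup.mem_sup_right hx⟩]
        exact hψX.le ⟨_, hx, rfl⟩
      obtain ⟨j, hjper, hje⟩ := exists_per_ext hψi.le_left (hψi.mono (prodSys_le_F hc)) le_sup_left
        (hper.congr (fun x hx => he.mem hx) hψP) fun x hx => by rw [hψP x hx]; exact he.mem hx
      have hjX : ∀ x ∈ X, (funOf ψ)^[j] x ∈ X := by
        clear hjper hje
        induction j with
        | zero => exact fun x hx => hx
        | succ j ih => exact fun x hx => by rw [Function.iterate_succ_apply']; exact hψXm _ (ih x hx)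
      have hPQ : P₂ ⊔ X ≤ Q := sup_le (hPV.trans hVQ) hXQ
      obtain ⟨B, hB, hBQ, hBm⟩ := hf.restrict hPQ
      obtain ⟨d, hd, hdper, hde⟩ := prodSys_transport hc (hB.mono (normalizerSystem_le hXS))
        (iterate_isIso hψi j) hjper
      have hfX : ∀ x ∈ X, f x ∈ X := fun x hx => normalizerSystem_pres hXS hf hXQ hx
      have hXB : X ≤ B := fun y hy => by
        obtain ⟨x, hx, rfl⟩ := (SubCent.image_self (hf.mono (normalizerSystem_le hXS)) hXQ hfX y).mp hy
        exact hB.mem (Subgroup.mem_sup_right hx)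
      have hBW : B ≤ (normalizerIn S X) := hBQ.trans hf.le_right
      have hdX : ∀ y ∈ X, d y ∈ X := fun y hy => by
        obtain ⟨x, hx, rfl⟩ := (SubCent.image_self (hf.mono (normalizerSystem_le hXS)) hXQ hfX y).mp hy
        rw [hde x (Subgroup.mem_sup_right hx)]
        exact hfX _ (hjX x hx)
      have hdN : NG.IsIso B B d := mem_normalizerSystem hXS hd hBW hBW hXB hdX
      have hP'B : P' ≤ B := fun y hy => by
        obtain ⟨x, hx, rfl⟩ := (hP y).mp hy
        exact hB.mem (Subgroup.mem_sup_left hx)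
      have hP'V : P' ≤ (normalizerIn T X) := he'.le_left
      have hde' : ∀ y ∈ P', e' y = d y := fun y hy => by
        obtain ⟨x, hx, rfl⟩ := (hP y).mp hy
        rw [hde x (Subgroup.mem_sup_left hx), hje x hx, hψP x hx, hee x hx]
      have hdP : NG.IsIso P' P' d := hdN.restrict' hP'B fun y => by
        constructor
        · intro hy
          obtain ⟨x, hx, rfl⟩ := he'.surj hy
          exact ⟨x, hx, (hde' x hx).symm⟩
        · rintro ⟨x, hx, rfl⟩
          rw [← hde' x hx]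
          exact he'.mem hx
      exact (index_iso_of_per hMidx hP'V hdP (hdper.mono hP'B)).congr hde'
    intro A B A' B' e hA hB he hA' hB'
    obtain ⟨e', he', hee⟩ := hup _ _ _ _ _ he hA' hB'
    exact ⟨e', he'.mono (show G'.IsSubsystemOf M from fun _ _ hφ => hle _ hφ), hee⟩
  -- all maps carry `M`
  have hall : N ≤ carrySys N M hconj := by
    refine hNs.le_of_autGroup_le' hW _ fun Q hQ hbig => ?_
    have hQW : Q ≤ (normalizerIn S X) := by
      rcases hQ with rfl | hQ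
      · exact le_rfl
      · exact hQ.1.1
    have hXQ : X ≤ Q := by
      rcases hQ with rfl | hQ
      · exact hXW
      · exact hXnorm.le_of_centric_radical hW hQ.1 (hQ.isRadical hW hNs)
    haveI := finite_autGroup (F := N) hQW
    haveI := finite_of_le hQW
    by_cases hVQ : (normalizerIn T X) ≤ Q
    · intro α hα
      obtain ⟨f, hf, hfe⟩ := isIso_of_aut hQW hα
      exact (carrySys N M hconj).mem_autGroup_of_map (mem_carrySys (φ := Q.subtype.comp α.toMonoidHom) hf hfe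
        (hbigV hVQ hXQ hf) fun k hk _ => hbigV hVQ hXQ hk) fun _ => rfl
    replace hQ : N.IsEssential p Q := hQ.resolve_left fun e => hVQ (e ▸ hVW)
    have hQS : Q ≤ S := hQW.trans hWS
    obtain ⟨-, U, hU⟩ := hNs.isFullyAutomized_of_isFullyNormalized hW hQ.2.1
    have hrec := hNs.isReceptive_of_isFullyNormalized hW hQ.2.1
    set D := pSys hc (le_sup_left : T ≤ T ⊔ Q) (sup_le hc.le_S hQS) with hDdef
    let L : Subgroup (N.autGroup Q) := (D.autGroup Q).subgroupOf (N.autGroup Q)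
    have hLn : L.Normal := by
      refine ⟨fun b hb γ => ?_⟩
      obtain ⟨g, hg, hge⟩ := isIso_of_aut hQW γ.2
      obtain ⟨d, hd, hde⟩ := isIso_of_aut le_sup_right (Subgroup.mem_subgroupOf.mp hb)
      obtain ⟨φ, hφ, -, hφe⟩ := hg.mono (normalizerSystem_le hXS)
      have h1 := (le_trSys hc Q hφ).2 Q Q le_rfl fun y => by
        constructor
        · intro hy
          obtain ⟨x, hx, rfl⟩ := hg.surj hy
          exact ⟨x, hx, (funOf_apply φ ⟨x, hx⟩).symm.trans (hφe ⟨x, hx⟩)⟩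
        · rintro ⟨x, hx, rfl⟩
          rw [← funOf_apply φ ⟨x, hx⟩, hφe]
          exact hg.mem hx
      obtain ⟨d', ⟨_, hd'⟩, he'⟩ := h1.1 d ⟨hQS, hd⟩
      obtain ⟨ψ, hψ, -, hψe⟩ := hd'
      refine Subgroup.mem_subgroupOf.mpr (D.mem_autGroup_of_map hψ fun y => ?_)
      have h2 := he' _ ((γ : MulAut Q)⁻¹ y).2
      have h3 : ∀ x ∈ Q, funOf φ x = g x := fun x hx => (funOf_apply φ ⟨x, hx⟩).symm.trans (hφe ⟨x, hx⟩)
      have h4 : g (((γ : MulAut Q)⁻¹ y : Q) : Ω) = y := by rw [← hge, MulAut.apply_inv_self]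
      rw [h3 _ (SetLike.coe_mem _), h3 _ (hd.mem (SetLike.coe_mem _)), h4] at h2
      rw [hψe, h2, ← hde]
      exact hge _
    have hUle : (U : Subgroup (N.autGroup Q)) ≤ ((carrySys N M hconj).autGroup Q).subgroupOf (N.autGroup Q) := by
      rw [hU]
      exact fun x hx => autInducedBy_le_autGroup hQW hx
    have hNGQ : ∀ {k : Ω → Ω}, N.IsIso Q Q k → (prodSys hc).IsIso Q Q k → Carries M Q k := fun hk hkG =>
      carries_of_invariant hMn.1.2.2 (mem_normalizerSystem hXS hkG hQW hQW hXQ fun x hx =>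
        normalizerSystem_pres hXS hk hXQ hx)
    have hLle : L ≤ ((carrySys N M hconj).autGroup Q).subgroupOf (N.autGroup Q) := by
      intro b hb
      obtain ⟨f, hf, hfe⟩ := isIso_of_aut hQW b.2
      obtain ⟨d, hd, hde⟩ := isIso_of_aut le_sup_right (Subgroup.mem_subgroupOf.mp hb)
      have hfd : ∀ x ∈ Q, f x = d x := fun x hx => (hfe ⟨x, hx⟩).symm.trans (hde ⟨x, hx⟩)
      have hdG : (prodSys hc).IsIso Q Q d := hd.mono (pSys_sub hc _ _)
      refine (carrySys N M hconj).mem_autGroup_of_map (mem_carrySys (φ := Q.subtype.comp (b : MulAut Q).toMonoidHom)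
        hf hfe (hNGQ hf (hdG.congr hfd)) fun k hk hkl => ?_) fun _ => rfl
      obtain ⟨di, hdi, hdil, -⟩ := hdG.symm
      refine hNGQ hk (hdi.congr fun y hy => ?_)
      obtain ⟨x, hx, rfl⟩ := hdG.surj hy
      rw [hdil x hx, ← hfd x hx, hkl x hx]
    obtain ⟨Y, hY⟩ := ((U.2.to_le (inf_le_left : (U : Subgroup (N.autGroup Q)) ⊓ L ≤ U)).of_equiv
      (Subgroup.subgroupOfEquivOfLe inf_le_right).symm).exists_le_sylow
    have hYmap : (Y : Subgroup L).map L.subtype = (U : Subgroup (N.autGroup Q)) ⊓ L := by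
      symm
      have h1 : (U : Subgroup (N.autGroup Q)) ⊓ L ≤ (Y : Subgroup L).map L.subtype :=
        fun x hx => ⟨⟨x, hx.2⟩, hY hx, rfl⟩
      obtain ⟨a, ha⟩ := exists_conj_mem_sylow U (Y.2.map L.subtype)
      refine Subgroup.eq_of_le_of_card_ge h1 ?_
      refine le_trans (le_of_eq (Subgroup.card_map_of_injective (f := (MulAut.conj a : (N.autGroup Q) ≃* _).toMonoidHom)
        (MulEquiv.injective (MulAut.conj a))).symm)
        (Subgroup.card_le_of_le ?_)
      rintro _ ⟨x, hx, rfl⟩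
      refine ⟨ha x hx, ?_⟩
      obtain ⟨y, -, rfl⟩ := hx
      exact hLn.conj_mem _ y.2 a
    intro α hα
    suffices hall : (⊤ : Subgroup (N.autGroup Q)) ≤ ((carrySys N M hconj).autGroup Q).subgroupOf (N.autGroup Q) from
      hall (Subgroup.mem_top (⟨α, hα⟩ : N.autGroup Q))
    haveI := hLn
    rw [← Y.normalizer_sup_eq_top, hYmap]
    refine sup_le (fun γ hγ => ?_) hLle
    let M₀ : Subgroup Ω :=
      { carrier := {s | s ∈ (normalizerIn S X) ∧ ∃ hs : s ∈ Subgroup.normalizer (Q : Set Ω),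
          ∃ b : N.autGroup Q, b ∈ L ∧ (b : MulAut Q) = Q.normalizerMonoidHom ⟨s, hs⟩}
        one_mem' := ⟨(normalizerIn S X).one_mem, Subgroup.one_mem _, 1, L.one_mem, by
          rw [show (⟨1, Subgroup.one_mem _⟩ : ↥(Subgroup.normalizer (Q : Set Ω))) = 1 from rfl, map_one]; rfl⟩
        mul_mem' := by
          rintro s t ⟨hs, hsN, b, hb, hbe⟩ ⟨ht, htN, c, hcL, hce⟩
          refine ⟨(normalizerIn S X).mul_mem hs ht, Subgroup.mul_mem _ hsN htN, b * c, L.mul_mem hb hcL, ?_⟩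
          rw [show (⟨s * t, Subgroup.mul_mem _ hsN htN⟩ : ↥(Subgroup.normalizer (Q : Set Ω))) =
            ⟨s, hsN⟩ * ⟨t, htN⟩ from rfl, map_mul, Subgroup.coe_mul, hbe, hce]
        inv_mem' := by
          rintro s ⟨hs, hsN, b, hb, hbe⟩
          refine ⟨(normalizerIn S X).inv_mem hs, Subgroup.inv_mem _ hsN, b⁻¹, L.inv_mem hb, ?_⟩
          rw [show (⟨s⁻¹, Subgroup.inv_mem _ hsN⟩ : ↥(Subgroup.normalizer (Q : Set Ω))) =
            ⟨s, hsN⟩⁻¹ from rfl, map_inv, Subgroup.coe_inv, hbe] }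
    have hM₀ : M₀ ≤ normalizerIn (normalizerIn S X) Q := fun s hs => ⟨hs.1, hs.2.1⟩
    obtain ⟨ψ, hψ, hψe⟩ := exists_extension_of_normalizes hrec γ.2 hM₀ (by
      rintro s ⟨hsW, hsN', b, hb, hbe⟩ hsN
      have hbU : b ∈ (U : Subgroup (N.autGroup Q)) ⊓ L :=
        ⟨hU.ge (Subgroup.mem_subgroupOf.mpr (mem_autInducedBy_iff.mpr ⟨s, hsW, hsN, fun x => by
          show (((b : MulAut Q) x : Q) : Ω) = _
          rw [hbe]; rfl⟩)), hb⟩
      have h1 := hU.le ((Subgroup.mem_normalizer_iff.mp hγ b).mp hbU).1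
      rw [Subgroup.mem_subgroupOf, Subgroup.coe_mul, Subgroup.coe_mul, Subgroup.coe_inv, hbe] at h1
      exact h1)
    have hlt : Q < Q ⊔ M₀ := by
      refine lt_of_le_of_ne le_sup_left fun e => ?_
      have hle : Q ⊔ (normalizerIn T X) ≤ (normalizerIn S X) := sup_le hQW hVW
      have hlt : Q < Q ⊔ (normalizerIn T X) := lt_of_le_of_ne le_sup_left fun e => hVQ (le_sup_right.trans e.ge)
      haveI := finite_of_le hle
      obtain ⟨w, hw, hwQ⟩ := SetLike.exists_of_lt (lt_normalizerIn (hW.to_le hle) hlt)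
      have hw1 : w ∈ (↑(Q ⊔ (normalizerIn T X)) : Set Ω) := hw.1
      rw [Subgroup.coe_mul_of_left_le_normalizer_right Q (normalizerIn T X) (hQW.trans hVn)] at hw1
      obtain ⟨r, hr, v, hv, rfl⟩ := hw1
      have hvN : v ∈ Subgroup.normalizer (Q : Set Ω) := by
        have := Subgroup.mul_mem _ (Subgroup.inv_mem _
          (Subgroup.le_normalizer hr : r ∈ Subgroup.normalizer (Q : Set Ω))) hw.2
        simpa [mul_assoc] using this
      refine hwQ (Q.mul_mem hr (e.ge (Subgroup.mem_sup_right ⟨hVW hv, hvN,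
        ⟨Q.normalizerMonoidHom ⟨v, hvN⟩, autInducedBy_le_autGroup hQW (mem_autInducedBy_iff.mpr
          ⟨v, hVW hv, hvN, fun _ => rfl⟩)⟩, Subgroup.mem_subgroupOf.mpr (autInducedBy_le_autGroup (F := D) le_sup_right
            (mem_autInducedBy_iff.mpr ⟨v, Subgroup.mem_sup_left (hVT hv), hvN, fun _ => rfl⟩)), rfl⟩)))
    haveI : Finite ↥(Q ⊔ M₀ : Subgroup Ω) := finite_of_le (sup_le hQW (hM₀.trans normalizerIn_le))
    exact (carrySys N M hconj).mem_autGroup_of_map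
      ((carrySys N M hconj).restrict_mem (hbig _ (Family.card_lt_of_lt hlt) hψ) le_sup_left)
      fun x => (hψe x).symm
  have hstrong : M.StrongInvariance N := by
    intro P Q hPQ hQV φ hφ hφQ ψ hψ
    have hi := isIso_funOf hφ
    obtain ⟨B', -, -, hB'⟩ := (isIso_funOf hψ).restrict (show φ.range ≤ Q by rintro _ ⟨x, rfl⟩; exact hφQ x)
    obtain ⟨e', he', hee⟩ := (hall Q hψ).2.1 P φ.range ((P.subgroupOf Q).map ψ) B' (funOf φ) hPQ
      (by rintro _ ⟨x, rfl⟩; exact hφQ x) hi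
      (fun y => ⟨fun ⟨x, hx, q⟩ => ⟨x, hx, (funOf_apply ψ x).symm.trans q⟩,
        fun ⟨x, hx, q⟩ => ⟨⟨x, hPQ hx⟩, hx, (funOf_apply ψ ⟨x, hPQ hx⟩).trans q⟩⟩) hB'
    obtain ⟨χ, hχ, -, hχe⟩ := he'
    refine ⟨χ, hχ, fun x hx => ?_⟩
    refine (hχe _).trans ?_
    show e' (ψ (Subgroup.inclusion hPQ x)) = ψ ⟨φ x, hφQ x⟩
    rw [show ψ (Subgroup.inclusion hPQ x) = funOf ψ (x : Ω) from funOf_apply ψ _, hee x x.2,
      ← funOf_apply φ x, ← funOf_apply ψ ⟨φ x, hφQ x⟩]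
  refine ⟨M, ⟨⟨hMs, hNs, hstrong.isInvariantIn hNs hW hVc fun P φ hφ => hNGN P (hMidx.1 P hφ)⟩, ?_⟩, hME⟩
  intro α hα
  obtain ⟨β, hβ, h1, h2⟩ := hMn.2 α hα
  have hle : (normalizerIn T X) ⊔ centralizerIn (normalizerIn S X) (normalizerIn T X) ≤ (normalizerIn S X) := sup_le hVW centralizerIn_le
  exact ⟨β, (N.mem_autGroup_iff hle).mpr (hNGN _ ((NG.mem_autGroup_iff hle).mp hβ)), h1, h2⟩

end Cfsg.FusionSystem.Balance
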