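import Cfsg.Agent.Lib.Fusion.Balance.Local
import Cfsg.Agent.Lib.Fusion.Layer.Fitting
import Cfsg.Agent.Lib.Fusion.Layer.Structure
import Cfsg.Agent.Lib.Fusion.DichotomyMain
import Cfsg.Agent.Lib.Fusion.TransportComponent

/-!
Balance: the components of a local system have carriers inside the carrier of the layer.
-/

set_option autoImplicit false
set_option linter.unusedSectionVars false
set_option linter.unusedVariables false
set_option linter.style.haveILetI false

namespace Cfsg.FusionSystem.Balance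

open Cfsg.FusionSystem.Product Cfsg.FusionSystem.Layer
open Cfsg.FusionSystem.Components (allMaps allMaps_finite subnormal_basic normalizer_iso_ext normalizer_iso_of_ext
  normalizer_iso_transport)
open Cfsg.FusionSystem.SubCent (image_self centSub centSub_le hom_le_centSub focal_le_centSub centralizerHom_mono)

universe u

variable {Ω : Type u} [Group Ω] {S T U X Y A M R : Subgroup Ω} {F : FusionSystem S} {E : FusionSystem T}
  {C : FusionSystem U} {f g a : Ω → Ω} {p : ℕ}

/-- A strongly closed subgroup with normaliser part inside `X` lies in `X`. -/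
theorem le_of_normalizerIn_le [Finite S] [Fact p.Prime] (hS : IsPGroup p S) (hT : F.StronglyClosed T) (hX : X ≤ S)
    (h : normalizerIn T X ≤ X) : T ≤ X := by
  by_contra hTX
  have hle : X ⊔ T ≤ S := sup_le hX hT.1
  have hlt : X < X ⊔ T := lt_of_le_of_ne le_sup_left fun e => hTX (le_sup_right.trans e.ge)
  haveI := finite_of_le hle
  obtain ⟨w, hw, hwX⟩ := SetLike.exists_of_lt (lt_normalizerIn (hS.to_le hle) hlt)
  have hw1 : w ∈ (↑(X ⊔ T) : Set Ω) := hw.1
  rw [Subgroup.coe_mul_of_left_le_normalizer_right X T (hX.trans hT.le_normalizer)] at hw1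
  obtain ⟨r, hr, t, ht, rfl⟩ := hw1
  have htN : t ∈ Subgroup.normalizer (X : Set Ω) := by
    have := Subgroup.mul_mem _ (Subgroup.inv_mem _
      (Subgroup.le_normalizer hr : r ∈ Subgroup.normalizer (X : Set Ω))) hw.2
    simpa [mul_assoc] using this
  exact hwX (X.mul_mem hr (h ⟨ht, htN⟩))

/-- A map preserving `X` gives a map of the normalizer system. -/
theorem nzr_iso [Finite S] [Fact p.Prime] (hX : X ≤ S) (hg : F.IsIso M R g) (hM : A ⊔ X ≤ M)
    (hgX : ∀ x ∈ X, g x ∈ X) (hA : A ≤ normalizerIn S X) :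
    ∃ B, (F.normalizerSystem X hX).IsIso A B g ∧ ∀ y, y ∈ B ↔ ∃ x ∈ A, g x = y := by
  obtain ⟨B, hB, -, hBm⟩ := hg.restrict (le_sup_left.trans hM)
  obtain ⟨R', hR', -, -⟩ := hg.restrict hM
  have hXim := image_self hg (le_sup_right.trans hM) hgX
  refine ⟨B, normalizer_iso_of_ext hX hR' hgX hA (fun y hy => ⟨hB.le_right hy, ?_⟩) hBm, hBm⟩
  obtain ⟨x, hx, rfl⟩ := (hBm y).mp hy
  exact hg.mem_normalizer (le_sup_right.trans hM) hXim (le_sup_left.trans hM hx) (hA hx).2

/-- The subgroup commuting with the components outside the layer. -/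
def bigSub (F : FusionSystem S) (T X : Subgroup Ω) : Subgroup Ω :=
  X ⊔ normalizerIn T X ⊔ normalizerIn F.core X

theorem le_bigSub : X ≤ bigSub F T X := le_sup_left.trans le_sup_left

theorem bigSub_le [Finite S] (hT : T ≤ S) (hX : X ≤ S) : bigSub F T X ≤ normalizerIn S X :=
  sup_le (sup_le (le_normalizerIn hX) (inf_le_inf_right _ hT)) (inf_le_inf_right _ (isNormal_core F).1)

theorem inf_normalizerIn (hT : T ≤ S) : normalizerIn S X ⊓ T = normalizerIn T X :=
  Subgroup.ext fun x => ⟨fun h => ⟨h.2, h.1.2⟩, fun h => ⟨⟨hT h.1, h.2⟩, h.1⟩⟩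

theorem bigSub_image [Finite S] [Fact p.Prime] {X' : Subgroup Ω} (hT : F.StronglyClosed T) (hX : X ≤ S)
    (ha : F.IsIso (normalizerIn S X) (normalizerIn S X') a) (hX' : ∀ y, y ∈ X' ↔ ∃ x ∈ X, a x = y) :
    ∀ y, y ∈ bigSub F T X' ↔ ∃ x ∈ bigSub F T X, a x = y := by
  obtain ⟨φ, hφ, hr, he⟩ := id ha
  have hcore := (isNormal_core F).stronglyClosed
  have key : ∀ {K K' : Subgroup Ω}, K ≤ normalizerIn S X → (∀ y, y ∈ K' ↔ ∃ x ∈ K, a x = y) →
      (K.subgroupOf (normalizerIn S X)).map φ = K' := by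
    intro K K' hK hK'
    ext y
    rw [hK']
    exact ⟨fun ⟨x, hx, e⟩ => ⟨x, hx, (he x).symm.trans e⟩, fun ⟨x, hx, e⟩ => ⟨⟨x, hK hx⟩, hx, (he _).trans e⟩⟩
  have hK : ∀ {T₀ : Subgroup Ω}, F.StronglyClosed T₀ →
      (∀ y, y ∈ normalizerIn T₀ X' ↔ ∃ x ∈ normalizerIn T₀ X, a x = y) := fun {T₀} h y => by
    rw [← inf_normalizerIn h.1, ← inf_normalizerIn h.1]
    exact inter_image h ha y
  have h1 : X ≤ normalizerIn S X := le_normalizerIn hX
  have h2 : normalizerIn T X ≤ normalizerIn S X := inf_le_inf_right _ hT.1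
  have h3 : normalizerIn F.core X ≤ normalizerIn S X := inf_le_inf_right _ hcore.1
  intro y
  have h4 : ((bigSub F T X).subgroupOf (normalizerIn S X)).map φ = bigSub F T X' := by
    rw [bigSub, Subgroup.subgroupOf_sup (sup_le h1 h2) h3, Subgroup.subgroupOf_sup h1 h2, Subgroup.map_sup,
      Subgroup.map_sup, key h1 hX', key h2 (hK hT), key h3 (hK hcore)]
    rfl
  rw [← h4]
  exact ⟨fun ⟨x, hx, e⟩ => ⟨x, hx, (he x).symm.trans e⟩,
    fun ⟨x, hx, e⟩ => ⟨⟨x, bigSub_le hT.1 hX hx⟩, hx, (he _).trans e⟩⟩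

variable [Finite S] [Fact p.Prime]

/-- Components of a local system are carried to components of an isomorphic local system. -/
theorem transport_component (hS : IsPGroup p S) {X' : Subgroup Ω} (hX : X ≤ S) (hX' : X' ≤ S)
    (ha : F.IsIso (normalizerIn S X) (normalizerIn S X') a) (hXX' : ∀ y, y ∈ X' ↔ ∃ x ∈ X, a x = y)
    (hC : C.IsComponentIn (F.normalizerSystem X hX) p) :
    ∃ (U' : Subgroup Ω) (C' : FusionSystem U'), C'.IsComponentIn (F.normalizerSystem X' hX') p ∧
      ∀ x ∈ U, a x ∈ U' := by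
  have hWS : normalizerIn S X ≤ S := normalizerIn_le
  haveI := finite_of_le hWS
  have hW := hS.to_le hWS
  obtain ⟨k, hk, hkl, hkr⟩ := ha.symm
  have hXk : ∀ y, y ∈ X ↔ ∃ x ∈ X', k x = y := fun y => by
    constructor
    · exact fun hy => ⟨a y, (hXX' _).mpr ⟨y, hy, rfl⟩, hkl y (le_normalizerIn hX hy)⟩
    · rintro ⟨x, hx, rfl⟩
      obtain ⟨z, hz, rfl⟩ := (hXX' x).mp hx
      rwa [hkl z (le_normalizerIn hX hz)]
  obtain ⟨α, hα, hαr, hαe⟩ := id ha
  obtain ⟨G', hG'⟩ := exists_isFactorSystem_bot (F.normalizerSystem X hX) α (F.injective_of_mem hα) hαr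
  obtain ⟨hdown, hup⟩ := factor_iso hG' hαe
  have heq : G' = F.normalizerSystem X' hX' := by
    refine hom_ext fun P => Set.Subset.antisymm (fun φ hφ => ?_) fun φ hφ => ?_
    · obtain ⟨P₁, Q₁, f₁, hf₁, hP, hQ, he⟩ := hdown _ _ _ (isIso_funOf hφ)
      refine mem_hom_of_isIso (normalizer_iso_transport hX hX' ha hk hkl hXX' hf₁ hP hQ) fun y => ?_
      obtain ⟨x, hx, hxy⟩ := (hP y).mp y.2
      rw [funOf_apply φ y, ← hxy, he x hx]
      show _ = a (f₁ (k (a x)))
      rw [hkl x (hf₁.le_left hx)]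
    · have hi := isIso_funOf hφ
      obtain ⟨P₁, -, -, hP₁⟩ := hk.restrict hi.le_left
      obtain ⟨Q₁, -, -, hQ₁⟩ := hk.restrict hi.le_right
      have h1 := normalizer_iso_transport hX' hX hk ha hkr hXk hi hP₁ hQ₁
      obtain ⟨f', hf', hfe⟩ := hup _ _ _ P φ.range h1
        (fun y => ⟨fun hy => ⟨k y, (hP₁ _).mpr ⟨y, hy, rfl⟩, hkr y (hi.le_left hy)⟩, by
          rintro ⟨x, hx, rfl⟩
          obtain ⟨z, hz, rfl⟩ := (hP₁ x).mp hx
          rwa [hkr z (hi.le_left hz)]⟩)
        (fun y => ⟨fun hy => ⟨k y, (hQ₁ _).mpr ⟨y, hy, rfl⟩, hkr y (hi.le_right hy)⟩, by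
          rintro ⟨x, hx, rfl⟩
          obtain ⟨z, hz, rfl⟩ := (hQ₁ x).mp hx
          rwa [hkr z (hi.le_right hz)]⟩)
      refine mem_hom_of_isIso hf' fun y => ?_
      have h2 := hfe (k y) ((hP₁ _).mpr ⟨y, y.2, rfl⟩)
      rw [hkr y (hi.le_left y.2)] at h2
      rw [h2, funOf_apply φ y]
      exact (hkr _ (hi.le_right (hi.mem y.2))).symm
  subst heq
  obtain ⟨U', C', hUW, rfl, hC', hCC'⟩ := hG'.exists_isSubnormalIn hW hC.1
  haveI := finite_of_le hUW
  refine ⟨_, C', ⟨hC', hCC'.quasisimple (hW.to_le hUW) hC.2⟩, fun x hx => ⟨⟨x, hUW hx⟩, hx, hαe _⟩⟩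

/-- A component of a local system inside the carrier of the layer, or its closure commutes with the big subgroup. -/
theorem component_facts (hS : IsPGroup p S) (hF : F.IsSaturated p) (hX : F.IsFullyNormalized X)
    (hE : E.IsLayerOf F p) (hC : C.IsComponentIn (F.normalizerSystem X hX.1) p) :
    U ≤ T ∨ ∃ (TC : Subgroup Ω) (NC : FusionSystem TC), NC.IsNormalIn (F.normalizerSystem X hX.1) p ∧
      C.IsNormalIn NC p ∧ (F.normalizerSystem X hX.1).StronglyClosed (bigSub F T X) ∧
      (∀ x ∈ TC, ∀ y ∈ bigSub F T X, x * y = y * x) ∧ TC ⊓ bigSub F T X ≤ NC.center ∧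
      ∀ P, NC.Hom P ⊆ (F.normalizerSystem X hX.1).centralizerHom (bigSub F T X) P := by
  classical
  rw [or_iff_not_imp_left]
  intro hUT
  have hXS := hX.1
  have hWS : normalizerIn S X ≤ S := normalizerIn_le
  haveI := finite_of_le hWS
  have hW := hS.to_le hWS
  have hNs : (F.normalizerSystem X hXS).IsSaturated p := hF.isSaturated_normalizerSystem hS hX
    (F.normalizerSystem_isNormalizerSystem X hXS)
  have hcoren := isNormal_core F
  obtain ⟨ME, hME, -⟩ := exists_local (⟨hS, hE.1⟩ : Setup F p E) hX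
  obtain ⟨MQ, hMQ, hMQsub⟩ :=
    exists_local (⟨hS, CoreCent.isNormalIn_inner hS hF hcoren⟩ : Setup F p (innerFusionSystem F.core)) hX
  have hUW : U ≤ normalizerIn S X := (subnormal_basic hC.1).2.2
  haveI := finite_of_le hUW
  have hUE : ¬ U ≤ normalizerIn T X := fun h => hUT (h.trans inf_le_left)
  have hUQ : ¬ U ≤ normalizerIn F.core X := by
    intro h
    haveI := finite_of_le hcoren.1
    have h1 : C.IsSubsystemOf (innerFusionSystem F.core) :=
      fun P φ hφ => hMQsub P (subsystem_of_le hW hNs hC hMQ h P hφ)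
    have h2 := hC.2.2.1.ge.trans
      ((Layer.hyperfocal_le h1).trans (CoreCent.hyperfocal_inner (hS.to_le hcoren.1)).le)
    exact quasisimple_not_le_center (hW.to_le hUW) hC.2 (h2.trans bot_le)
  obtain ⟨TC, NC, hNC⟩ := exists_closure hW hNs hC
  have hCN := hNC.normal hW hNs hC
  have hTCW : TC ≤ normalizerIn S X := hNC.1.1.2.2.2.1.1
  haveI := finite_of_le hTCW
  have hTCp := hW.to_le hTCW
  have hNCs : NC.IsSaturated p := hNC.1.1.1
  have hself := hNC.layer hW hNs hC
  have hhyp : NC.hyperfocalSubgroup p = TC := hyperfocal_eq_of_self hTCp hNCs hself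
  have hzE := inter_le_center hW hNs hC hNC hCN hME hUE
  have hzQ := inter_le_center hW hNs hC hNC hCN hMQ hUQ
  have hcE := Layer.commute_of_hyperfocal hW hNC.1 hME.1.2.2.2.1 hzE hhyp
  have hcQ := Layer.commute_of_hyperfocal hW hNC.1 hMQ.1.2.2.2.1 hzQ hhyp
  have hXn : (F.normalizerSystem X hXS).IsNormal X :=
    (F.normalizerSystem_isNormalizerSystem X hXS).isNormal_self hXS
  obtain ⟨TL, L, hL⟩ := exists_layer hW hNs
  have hTL : TC ≤ TL := le_of_isSubsystemOf (hNC.least hL.1 (hL.2.1 U C hC))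
  have hcX : ∀ x ∈ TC, ∀ y ∈ X, x * y = y * x := fun x hx y hy =>
    (layer_comm_core hW hNs hL y (hXn.le_core hy) x (hTL hx)).symm
  have hYsc : (F.normalizerSystem X hXS).StronglyClosed (bigSub F T X) :=
    (hXn.stronglyClosed.sup hNs hW hME.1.2.2.2.1).sup hNs hW hMQ.1.2.2.2.1
  have hcY : ∀ x ∈ TC, ∀ y ∈ bigSub F T X, x * y = y * x := by
    intro x hx y hy
    have h1 : bigSub F T X ≤ Subgroup.centralizer (TC : Set Ω) := sup_le (sup_le
      (fun z hz => Subgroup.mem_centralizer_iff.mpr fun t ht => hcX t ht z hz)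
      fun z hz => Subgroup.mem_centralizer_iff.mpr fun t ht => hcE t ht z hz)
      fun z hz => Subgroup.mem_centralizer_iff.mpr fun t ht => hcQ t ht z hz
    exact Subgroup.mem_centralizer_iff.mp (h1 hy) x hx
  have hzc : NC.StronglyClosed (TC ⊓ bigSub F T X) := ⟨inf_le_left, fun P hP φ hφ x =>
    ⟨NC.apply_mem hφ x, hYsc.2 P (hP.trans inf_le_right) φ (hNC.1.1.2.2.1 P hφ) x⟩⟩
  have hz : TC ⊓ bigSub F T X ≤ NC.center :=
    abelian_le_center_of_self hTCp hNCs hself hzc fun x hx y hy => hcY x hx.1 y hy.2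
  exact ⟨TC, NC, hNC.1, hCN, hYsc, hcY, hz, hom_fix hW hNC.1 hYsc hcY hz⟩

/-- No component outside the layer when the big subgroup is `X`. -/
theorem false_of_eq (hS : IsPGroup p S) (hF : F.IsSaturated p) (hX : X ≤ S) (hE : E.IsLayerOf F p)
    (hY : bigSub F T X ≤ X) (hq : C.Quasisimple p) (hU : U ≤ S)
    (hfix : ∀ P, C.Hom P ⊆ F.centralizerHom X P) : False := by
  have hTX : T ≤ X := le_of_normalizerIn_le hS hE.1.1.2.2.2.1 hX ((le_sup_right.trans le_sup_left).trans hY)
  have hcX : F.core ≤ X := le_of_normalizerIn_le hS (isNormal_core F).stronglyClosed hX (le_sup_right.trans hY)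
  obtain ⟨W, D, hD⟩ := exists_fitting hS hF
  have hDn := fitting_normal hS hF hD
  have hWS : W ≤ S := hDn.1.2.2.2.1.1
  haveI := finite_of_le hWS
  have hWX : W ≤ X := by
    obtain ⟨T', E', hE', hc⟩ := hD
    rw [(isProd_of_centralProduct hc).carrier]
    exact sup_le hcX ((le_of_isSubsystemOf (hE'.2.2 _ E hE.1 hE.2.1)).trans hTX)
  have hCsub : C.IsSubsystemOf (F.centralizerSystem W hWS) := fun P φ hφ => centralizerHom_mono hWX (hfix P hφ)
  have h1 : U ≤ D.center :=
    hq.2.1.ge.trans ((Layer.hyperfocal_le hCsub).trans (hyperfocalSubgroup_le_focalSubgroup.trans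
      ((focal_le_centSub hS hDn (fun _ => rfl)).trans
        ((fitting_self_centralizing hS hF hD).2 _ centSub_le (hom_le_centSub hS hDn)))))
  haveI := finite_of_le hU
  refine quasisimple_nonabelian (hS.to_le hU) hq fun x hx y hy => ?_
  have hy' : y ∈ W := (isCentral_center D).1 (h1 hy)
  exact (Subgroup.mem_centralizer_iff.mp ((fitting_self_centralizing hS hF hD).1.1 (h1 hx)).2 y hy').symm

/-- The inductive step: the big subgroup is fully normalised and larger than `X`. -/
theorem step (hS : IsPGroup p S) (hF : F.IsSaturated p) (hX : F.IsFullyNormalized X) (hE : E.IsLayerOf F p)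
    (hC : C.IsComponentIn (F.normalizerSystem X hX.1) p) (hY : F.IsFullyNormalized (bigSub F T X))
    (ihF : Nat.card X < Nat.card (bigSub F T X) → ∀ {U' : Subgroup Ω} {C' : FusionSystem U'},
      C'.IsComponentIn (F.normalizerSystem (bigSub F T X) hY.1) p → U' ≤ T)
    (ihN : ∀ {S' : Subgroup Ω} (G : FusionSystem S') (hS' : S' ≤ S), G.IsSaturated p →
      (allMaps G).ncard < (allMaps F).ncard → ∀ (hX' : G.IsFullyNormalized X) {T' : Subgroup Ω}
        {E' : FusionSystem T'}, E'.IsLayerOf G p →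
          C.IsComponentIn (G.normalizerSystem X hX'.1) p → U ≤ T') :
    U ≤ T := by
  classical
  have hXS := hX.1
  have hWS : normalizerIn S X ≤ S := normalizerIn_le
  haveI := finite_of_le hWS
  have hW := hS.to_le hWS
  have hNs : (F.normalizerSystem X hXS).IsSaturated p := hF.isSaturated_normalizerSystem hS hX
    (F.normalizerSystem_isNormalizerSystem X hXS)
  have hNF : (F.normalizerSystem X hXS).IsSubsystemOf F := fun _ _ h => h.1
  have hUW : U ≤ normalizerIn S X := (subnormal_basic hC.1).2.2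
  have hUS := hUW.trans hWS
  rcases component_facts hS hF hX hE hC with h | ⟨TC, NC, hNC, hCN, hYsc, hcY, hz, hfix⟩
  · exact h
  have hTCW : TC ≤ normalizerIn S X := hNC.1.2.2.2.1.1
  have hCF : ∀ P, C.Hom P ⊆ F.centralizerHom (bigSub F T X) P := fun P φ hφ =>
    centralizerHom_le hNF (hfix P (hCN.1.2.2.1 P hφ))
  rcases (le_bigSub (F := F) (T := T) (X := X)).eq_or_lt with heq | hlt
  · exact (false_of_eq hS hF hXS hE heq.ge hC.2 hUS fun P φ hφ => centralizerHom_mono heq.le (hCF P hφ)).elim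
  set Y := bigSub F T X with hYdef
  have hYS := hY.1
  haveI := finite_of_le hYS
  have hXY : X ≤ Y := le_bigSub
  have hYW : Y ≤ normalizerIn S X := bigSub_le hE.1.1.2.2.2.1.1 hXS
  have hWY : normalizerIn S X ≤ normalizerIn S Y := fun x hx => ⟨hx.1, hYsc.le_normalizer hx⟩
  set G := F.normalizerSystem Y hYS with hGdef
  have hGF : G.IsSubsystemOf F := fun _ _ h => h.1
  by_cases hall : F.IsSubsystemOf G
  · -- `Y` is normal in `F`
    have hYn : F.IsNormal Y := ⟨hYS, fun P φ hφ => (hall P hφ).2.2.2⟩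
    have hYnN : (F.normalizerSystem X hXS).IsNormal Y := by
      refine ⟨hYW, fun P φ hφ => ?_⟩
      obtain ⟨-, hPW, -, ψ, hψ, hψe, hψX⟩ := id hφ
      obtain ⟨χ, hχ, hχe, hχY⟩ := hYn.2 _ ψ hψ
      have hle : P ⊔ Y ⊔ X ≤ P ⊔ X ⊔ Y :=
        sup_le (sup_le (le_sup_left.trans le_sup_left) le_sup_right) (le_sup_right.trans le_sup_left)
      obtain ⟨B, hB, -⟩ := nzr_iso (p := p) (A := P ⊔ Y) hXS (isIso_funOf hχ) hle (fun x hx => by
        rw [show funOf χ x = ψ ⟨x, Subgroup.mem_sup_right hx⟩ from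
          (funOf_apply χ (Subgroup.inclusion le_sup_left ⟨x, Subgroup.mem_sup_right hx⟩)).symm.trans (hχe _)]
        exact hψX.le ⟨_, hx, rfl⟩) (sup_le hPW hYW)
      obtain ⟨ξ, hξ, -, hξe⟩ := hB
      refine ⟨ξ, hξ, fun x => ?_, ?_⟩
      · rw [hξe, ← hψe x, ← hχe (Subgroup.inclusion le_sup_left x)]
        exact (funOf_apply χ (Subgroup.inclusion le_sup_left (Subgroup.inclusion le_sup_left x))).symm
      · ext y
        constructor
        · rintro ⟨⟨z, hz⟩, hzY, rfl⟩
          rw [hξe, ← funOf_apply χ ⟨z, Subgroup.mem_sup_right hzY⟩]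
          exact hχY.le ⟨_, hzY, rfl⟩
        · intro hy
          obtain ⟨⟨z, hz⟩, hzY, rfl⟩ := hχY.ge hy
          exact ⟨⟨z, Subgroup.mem_sup_right hzY⟩, hzY,
            (hξe _).trans (funOf_apply χ ⟨z, Subgroup.mem_sup_right hzY⟩).symm⟩
    have hUC : U ≤ centralizerIn (normalizerIn S X) Y := fun x hx =>
      ⟨hUW hx, ((hCF U (C.id_mem le_rfl)).2.1 hx).2⟩
    have hC1 := component_of_le hW hNs hC (CoreCent.isNormalIn_centralizerSystem hW hNs hYnN) hUC
    have h12 : ((F.normalizerSystem X hXS).centralizerSystem Y hYnN.1).IsSubsystemOf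
        (F.centralizerSystem Y hYS) := fun P φ hφ => centralizerHom_le hNF hφ
    have h21 : (F.centralizerSystem Y hYS).IsSubsystemOf
        ((F.normalizerSystem X hXS).centralizerSystem Y hYnN.1) := by
      rintro P φ ⟨hφF, hPC, hφC, ψ, hψ, hψe, hψY⟩
      have hCW : centralizerIn S Y ≤ normalizerIn S X := fun x hx =>
        ⟨hx.1, Subgroup.centralizer_le_normalizer _ (Subgroup.centralizer_le hXY hx.2)⟩
      obtain ⟨B, hB, -⟩ := nzr_iso (p := p) (A := P ⊔ Y) hXS (isIso_funOf hψ) (sup_le le_rfl (hXY.trans le_sup_right))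
        (fun x hx => by
          rw [show funOf ψ x = x from
            (funOf_apply ψ (Subgroup.inclusion le_sup_right ⟨x, hXY hx⟩)).symm.trans (hψY ⟨x, hXY hx⟩)]
          exact hx) (sup_le (hPC.trans hCW) hYW)
      obtain ⟨ξ, hξ, -, hξe⟩ := hB
      have hξψ : ∀ x, ξ x = ψ x := fun x => (hξe x).trans (funOf_apply ψ x).symm
      refine ⟨?_, fun x hx => ⟨hCW (hPC hx), (hPC hx).2⟩, fun x => ⟨hCW (hφC x), (hφC x).2⟩, ξ, hξ,
        fun x => (hξψ _).trans (hψe x), fun x => (hξψ _).trans (hψY x)⟩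
      have hm := (F.normalizerSystem X hXS).restrict_mem hξ (le_sup_left : P ≤ P ⊔ Y)
      rwa [show ξ.comp (Subgroup.inclusion le_sup_left) = φ from
        MonoidHom.ext fun x => (hξψ _).trans (hψe x)] at hm
    have hC2 : C.IsComponentIn (F.centralizerSystem Y hYS) p :=
      eq_rec_of_subsystem (prop := fun {_} H => C.IsComponentIn H p) h12 h21 hC1
    have hC3 : C.IsComponentIn F p :=
      component_up (subnormal_of_normal (CoreCent.isNormalIn_centralizerSystem hS hF hYn)) hC2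
    exact le_of_isSubsystemOf (hE.2.1 U C hC3)
  · -- induction
    have hGs : G.IsSaturated p := hF.isSaturated_normalizerSystem hS hY (F.normalizerSystem_isNormalizerSystem Y hYS)
    haveI := finite_of_le (normalizerIn_le : normalizerIn S Y ≤ S)
    have hGp := hS.to_le (normalizerIn_le : normalizerIn S Y ≤ S)
    have hlt' : (allMaps G).ncard < (allMaps F).ncard := by
      refine Set.ncard_lt_ncard ⟨fun x hx => hGF _ hx, fun h => hall fun P φ hφ => ?_⟩ (allMaps_finite le_rfl F)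
      exact h (a := ⟨P, φ⟩) hφ
    have hXGS : X ≤ normalizerIn S Y := (le_normalizerIn hXS).trans hWY
    have hW1 : normalizerIn (normalizerIn S Y) X = normalizerIn S X :=
      le_antisymm (fun x hx => ⟨hx.1.1, hx.2⟩) fun x hx => ⟨hWY hx, hx.2⟩
    have hXG : G.IsFullyNormalized X := ⟨hXGS, fun Q hQ => by
      rw [hW1]
      obtain ⟨φ, hφ, hr⟩ := hQ
      refine le_trans ?_ (hX.2 Q ⟨φ, hGF X hφ, hr⟩)
      haveI := finite_of_le (normalizerIn_le : normalizerIn S Q ≤ S)
      exact Subgroup.card_le_of_le (inf_le_inf_right _ normalizerIn_le)⟩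
    set N1 := G.normalizerSystem X hXGS with hN1def
    have hN1s : N1.IsSaturated p :=
      hGs.isSaturated_normalizerSystem hGp hXG (G.normalizerSystem_isNormalizerSystem X hXGS)
    have hN1N : N1.IsSubsystemOf (F.normalizerSystem X hXS) := fun P φ ⟨h1, h2, h3, ψ, hψ, h4, h5⟩ =>
      ⟨hGF P h1, h2.trans hW1.le, fun x => hW1.le (h3 x), ψ, hGF _ hψ, h4, h5⟩
    have hmk : ∀ {A M R : Subgroup Ω} {g : Ω → Ω}, F.IsIso M R g → A ⊔ Y ≤ M → (∀ x ∈ X, g x ∈ X) →
        (∀ x ∈ Y, g x ∈ Y) → A ≤ normalizerIn S X → ∃ B, N1.IsIso A B g ∧ ∀ y, y ∈ B ↔ ∃ x ∈ A, g x = y := by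
      intro A M R g hg hM hgX hgY hA
      obtain ⟨B', hB', -⟩ := nzr_iso (p := p) (A := A ⊔ X) hYS hg
        (sup_le (sup_le (le_sup_left.trans hM) (hXY.trans (le_sup_right.trans hM))) (le_sup_right.trans hM))
        hgY (sup_le (hA.trans hWY) hXGS)
      exact nzr_iso (p := p) hXGS hB' le_rfl hgX (fun x hx => hW1.ge (hA hx))
    have hNCN1 : NC.IsSubsystemOf N1 := by
      intro P φ hφ
      obtain ⟨-, hPC, -, ψ, hψ, hψe, hψY⟩ := hfix P hφ
      have hfixY : ∀ y ∈ Y, funOf ψ y = y := fun y hy =>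
        (funOf_apply ψ (Subgroup.inclusion le_sup_right ⟨y, hy⟩)).symm.trans (hψY ⟨y, hy⟩)
      obtain ⟨B, hB, -⟩ := hmk (A := P) ((isIso_funOf hψ).mono hNF) le_rfl
        (fun x hx => by rw [hfixY x (hXY hx)]; exact hx) (fun x hx => by rw [hfixY x hx]; exact hx)
        (hPC.trans centralizerIn_le)
      exact mem_hom_of_isIso hB fun x => (hψe x).symm.trans (funOf_apply ψ (Subgroup.inclusion le_sup_left x))
    haveI := finite_of_le hTCW
    haveI := finite_of_le (normalizerIn_le : normalizerIn (normalizerIn S Y) X ≤ normalizerIn S Y)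
    have hN1p := hGp.to_le (normalizerIn_le : normalizerIn (normalizerIn S Y) X ≤ normalizerIn S Y)
    have hNC1 : NC.IsNormalIn N1 p := by
      refine ⟨⟨hNC.1.1, hN1s, isInvariantIn_mid hN1p hN1s hNC.1.2.2 hNCN1 hN1N⟩, fun α hα => ?_⟩
      obtain ⟨f, hf, hfe⟩ := isIso_of_aut le_rfl hα
      obtain ⟨g, hg, hgf, hgY⟩ := top_fix hW hNC hYsc hcY hz hf
      have hdom : TC ⊔ centralizerIn (normalizerIn (normalizerIn S Y) X) TC =
          TC ⊔ centralizerIn (normalizerIn S X) TC := by rw [hW1]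
      have hYC : Y ≤ centralizerIn (normalizerIn S X) TC := le_centralizerIn_of_comm hYW hcY
      obtain ⟨B, hB, hBm⟩ := hmk (A := TC ⊔ centralizerIn (normalizerIn (normalizerIn S Y) X) TC)
        (hg.iso.mono hNF) (sup_le hdom.le (hYC.trans le_sup_right))
        (fun x hx => by rw [hgY x (hXY hx)]; exact hx) (fun x hx => by rw [hgY x hx]; exact hx)
        (hdom.le.trans (sup_le hTCW centralizerIn_le))
      have hBA : B = TC ⊔ centralizerIn (normalizerIn (normalizerIn S Y) X) TC := by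
        rw [hdom]
        ext y
        rw [hBm, hdom]
        exact ⟨fun ⟨x, hx, e⟩ => e ▸ hg.iso.mem hx, fun hy => hg.iso.surj hy⟩
      rw [hBA] at hB
      obtain ⟨β, hβ, hβe⟩ := hB.toAut
      refine ⟨β, hβ, fun x => ?_, fun c hc => ?_⟩
      · rw [hβe]
        exact (hgf x x.2).trans (hfe x).symm
      · rw [hβe]
        have hc' : (c : Ω) ∈ centralizerIn (normalizerIn S X) TC := ⟨hW1.le hc.1, hc.2⟩
        refine ⟨hg.triv _ hc', Subgroup.mul_mem _ (Subgroup.inv_mem _ hc.2) ?_⟩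
        refine Subgroup.mem_centralizer_iff.mpr fun t ht => ?_
        obtain ⟨s, hs, rfl⟩ := hf.surj ht
        rw [← hgf s hs, ← hg.iso.apply_mul (Subgroup.mem_sup_left hs) (Subgroup.mem_sup_right hc'),
          ← hg.iso.apply_mul (Subgroup.mem_sup_right hc') (Subgroup.mem_sup_left hs)]
        exact congrArg g (Subgroup.mem_centralizer_iff.mp hc'.2 s hs)
    have hC1 : C.IsComponentIn N1 p :=
      component_up (subnormal_of_normal hNC1) ⟨subnormal_of_normal hCN, hC.2⟩
    obtain ⟨TY, EY, hEY⟩ := exists_layer hGp hGs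
    have hle : U ≤ TY := ihN G normalizerIn_le hGs hlt' hXG hEY hC1
    obtain ⟨MY, hMY, -⟩ := exists_local (⟨hS, hE.1⟩ : Setup F p E) hY
    have hcard : Nat.card X < Nat.card Y := Family.card_lt_of_lt hlt
    refine hle.trans ((le_of_isSubsystemOf (hEY.2.2 _ MY hMY fun U' C' hC' => ?_)).trans inf_le_left)
    exact subsystem_of_le hGp hGs hC' hMY fun x hx => ⟨ihF hcard hC' hx, ((subnormal_basic hC'.1).2.2 hx).2⟩

omit [Finite S] in
/-- Every component of a local system has its carrier inside the carrier of the layer. -/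
theorem components_le_aux : ∀ (n m : ℕ) {S : Subgroup Ω} [Finite S] {F : FusionSystem S}, IsPGroup p S →
    F.IsSaturated p → (allMaps F).ncard = n → ∀ {X : Subgroup Ω} (hX : F.IsFullyNormalized X),
      Nat.card S - Nat.card X = m → ∀ {T : Subgroup Ω} {E : FusionSystem T}, E.IsLayerOf F p →
        ∀ {U : Subgroup Ω} {C : FusionSystem U}, C.IsComponentIn (F.normalizerSystem X hX.1) p → U ≤ T := by
  intro n
  induction n using Nat.strong_induction_on with
  | _ n ihn =>
    intro m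
    induction m using Nat.strong_induction_on with
    | _ m ihm =>
      intro S _ F hS hF hn X hX hm T E hE U C hC
      have hT := hE.1.1.2.2.2.1
      have hXS := hX.1
      -- move the big subgroup to a fully normalised conjugate
      have hYS : bigSub F T X ≤ S := (bigSub_le hT.1 hXS).trans normalizerIn_le
      rcases component_facts hS hF hX hE hC with h | ⟨TC, NC, -, -, hYsc, -, -, -⟩
      · exact h
      obtain ⟨Y', hYY', hY'⟩ := F.exists_isFullyNormalized hYS
      obtain ⟨φ, hφ, hφr, χ, hχ, hχN, hχe⟩ := hF.exists_map_to_fullyNormalized hS hY' hYY'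
      have hχi := isIso_funOf hχ
      have hWN : normalizerIn S X ≤ normalizerIn S (bigSub F T X) :=
        fun x hx => ⟨hx.1, hYsc.le_normalizer hx⟩
      obtain ⟨W', hW', -, hW'm⟩ := hχi.restrict hWN
      obtain ⟨X', hX'i, -, hX'm⟩ := hW'.restrict (le_normalizerIn hXS)
      have hX'S : X' ≤ S := hX'i.le_right
      have hW'S : W' ≤ S := hW'.le_right
      haveI := finite_of_le (normalizerIn_le : normalizerIn S X' ≤ S)
      have hle : W' ≤ normalizerIn S X' := fun y hy => by
        obtain ⟨x, hx, rfl⟩ := (hW'm y).mp hy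
        exact ⟨hW'.le_right (hW'.mem hx), hW'.mem_normalizer (le_normalizerIn hXS) hX'm hx hx.2⟩
      have hW'eq : W' = normalizerIn S X' :=
        Subgroup.eq_of_le_of_card_ge hle ((hX.2 X' hX'i.isConj).trans hW'.card_eq.le)
      subst hW'eq
      have hX' : F.IsFullyNormalized X' :=
        ⟨hX'S, fun Q hQ => (hX.2 Q (hX'i.isConj.trans hQ)).trans hW'.card_eq.le⟩
      have hYim : ∀ y, y ∈ Y' ↔ ∃ x ∈ bigSub F T X, funOf χ x = y := fun y => by
        have hin : ∀ x : bigSub F T X, funOf χ x = φ x := fun x => by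
          rw [← funOf_apply χ ⟨x, le_normalizerIn hYS x.2⟩]
          exact hχe x _
        constructor
        · intro hy
          obtain ⟨x, rfl⟩ := hφr.ge hy
          exact ⟨x, x.2, hin x⟩
        · rintro ⟨x, hx, rfl⟩
          rw [hin ⟨x, hx⟩]
          exact hφr.le ⟨_, rfl⟩
      have hYeq : bigSub F T X' = Y' :=
        Subgroup.ext fun y => (bigSub_image (p := p) hT hXS hW' hX'm y).trans (hYim y).symm
      obtain ⟨U', C', hC', hUU'⟩ := transport_component hS hXS hX'S hW' hX'm hC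
      have hm' : Nat.card S - Nat.card X' = m := by rw [← hX'i.card_eq, hm]
      have hU' : U' ≤ T := by
        refine step hS hF hX' hE hC' (hYeq ▸ hY') (fun hlt {U''} {C''} hC'' => ?_)
          fun {S'} G hS' hGs hlt hXG {T'} {E'} hE' hCG => ?_
        · have hY'' : F.IsFullyNormalized (bigSub F T X') := hYeq ▸ hY'
          have : Nat.card (bigSub F T X') ≤ Nat.card S := Subgroup.card_le_of_le hY''.1
          exact ihm _ (by omega) hS hF hn hY'' rfl hE hC''
        · haveI := finite_of_le hS'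
          exact ihn _ (hn ▸ hlt) _ (hS.to_le hS') hGs rfl hXG rfl hE' hCG
      intro x hx
      have hxW : x ∈ normalizerIn S X := (subnormal_basic hC.1).2.2 hx
      obtain ⟨k, hk, hkl, -⟩ := hW'.symm
      rw [← hkl x hxW]
      exact hT.iso_mem hk (hW'.mem hxW) (hU' (hUU' x hx))

/-- E-balance. -/
theorem layer_balance (hS : IsPGroup p S) (hF : F.IsSaturated p) (hX : F.IsFullyNormalized X)
    {V : Subgroup Ω} {EN : FusionSystem V} (hEN : EN.IsLayerOf (F.normalizerSystem X hX.1) p)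
    (hE : E.IsLayerOf F p) : EN.IsSubsystemOf E := by
  have hWS : normalizerIn S X ≤ S := normalizerIn_le
  haveI := finite_of_le hWS
  have hNs := hF.isSaturated_normalizerSystem hS hX (F.normalizerSystem_isNormalizerSystem X hX.1)
  obtain ⟨ME, hME, hsub⟩ := exists_local (⟨hS, hE.1⟩ : Setup F p E) hX
  refine fun P φ hφ => hsub P (hEN.2.2 _ ME hME (fun U C hC => ?_) P hφ)
  exact subsystem_of_le (hS.to_le hWS) hNs hC hME fun x hx =>
    ⟨components_le_aux _ _ hS hF rfl hX rfl hE hC hx, ((subnormal_basic hC.1).2.2 hx).2⟩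

end Cfsg.FusionSystem.Balance
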