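import Cfsg.Agent.Lib.Fusion.Balance.Base
import Cfsg.Agent.Lib.Fusion.IntersectionCentric

/-!
Automorphisms in the products of a normal subsystem are transported by all maps of the big system.
-/

set_option autoImplicit false
set_option linter.unusedSectionVars false
set_option linter.unusedVariables false
set_option linter.style.haveILetI false

namespace Cfsg.FusionSystem.Balance

open Cfsg.FusionSystem.Product
open Cfsg.FusionSystem.SubCent (isIso_self iterate_isIso)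

universe u

variable {Ω : Type u} [Group Ω] {S T : Subgroup Ω} {F : FusionSystem S} {E : FusionSystem T}
  {P Q R R' A B C : Subgroup Ω} {f g a d : Ω → Ω} {p : ℕ}

variable [Finite S] [Fact p.Prime]

/-- An automorphism of `A` in the product system over `T A`. -/
def TP (hc : Setup F p E) (A : Subgroup Ω) (d : Ω → Ω) : Prop :=
  ∃ hA : A ≤ S, (pSys hc (le_sup_left : T ≤ T ⊔ A) (sup_le hc.le_S hA)).IsIso A A d

/-- Both transports along `f`. -/
def Tr (hc : Setup F p E) (A B : Subgroup Ω) (f : Ω → Ω) : Prop :=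
  (∀ d, TP hc A d → ∃ d', TP hc B d' ∧ ∀ x ∈ A, d' (f x) = f (d x)) ∧
    ∀ d', TP hc B d' → ∃ d, TP hc A d ∧ ∀ x ∈ A, d' (f x) = f (d x)

variable (hc : Setup F p E)
include hc

theorem Tr.congr (h : Tr hc A B f) (he : ∀ x ∈ A, g x = f x) : Tr hc A B g := by
  refine ⟨fun d hd => ?_, fun d' hd' => ?_⟩
  · obtain ⟨d', hd', e⟩ := h.1 d hd
    obtain ⟨hA, hdi⟩ := hd
    exact ⟨d', hd', fun x hx => by rw [he x hx, e x hx, he _ (hdi.mem hx)]⟩
  · obtain ⟨d, hd, e⟩ := h.2 d' hd'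
    obtain ⟨hA, hdi⟩ := id hd
    exact ⟨d, hd, fun x hx => by rw [he x hx, e x hx, he _ (hdi.mem hx)]⟩

theorem Tr.comp (hf : F.IsIso A B f) (h : Tr hc A B f) (h' : Tr hc B C g) : Tr hc A C (fun x => g (f x)) := by
  refine ⟨fun d hd => ?_, fun d'' hd'' => ?_⟩
  · obtain ⟨d', hd', e⟩ := h.1 d hd
    obtain ⟨d'', hd'', e'⟩ := h'.1 d' hd'
    exact ⟨d'', hd'', fun x hx => by show d'' (g (f x)) = g (f (d x)); rw [e' _ (hf.mem hx), e x hx]⟩
  · obtain ⟨d', hd', e'⟩ := h'.2 d'' hd''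
    obtain ⟨d, hd, e⟩ := h.2 d' hd'
    exact ⟨d, hd, fun x hx => by show d'' (g (f x)) = g (f (d x)); rw [e' _ (hf.mem hx), e x hx]⟩

theorem Tr.symm (hf : F.IsIso A B f) (h : Tr hc A B f) {k : Ω → Ω} (hk : ∀ x ∈ A, k (f x) = x) :
    Tr hc B A k := by
  refine ⟨fun d' hd' => ?_, fun d hd => ?_⟩
  · obtain ⟨d, hd, e⟩ := h.2 d' hd'
    obtain ⟨hA, hdi⟩ := id hd
    refine ⟨d, hd, fun y hy => ?_⟩
    obtain ⟨x, hx, rfl⟩ := hf.surj hy
    rw [hk x hx, e x hx, hk _ (hdi.mem hx)]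
  · obtain ⟨d', hd', e⟩ := h.1 d hd
    obtain ⟨hA, hdi⟩ := id hd
    refine ⟨d', hd', fun y hy => ?_⟩
    obtain ⟨x, hx, rfl⟩ := hf.surj hy
    rw [hk x hx, e x hx, hk _ (hdi.mem hx)]

omit hc in
/-- The image of a join with a strongly closed subgroup. -/
theorem sup_image (hT : F.StronglyClosed T) (hf : F.IsIso P Q f) (hle : T ⊔ A ≤ P)
    (hB : ∀ y, y ∈ B ↔ ∃ x ∈ A, f x = y) : F.IsIso (T ⊔ A) (T ⊔ B) f := by
  have hTT : F.IsIso T (Q ⊓ T) f := by
    have := inter_iso hT hf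
    rwa [inf_eq_right.mpr (le_sup_left.trans hle)] at this
  have hQT : Q ⊓ T = T := by
    haveI := finite_of_le hT.1
    exact Subgroup.eq_of_le_of_card_ge inf_le_right (by rw [hTT.card_eq])
  obtain ⟨φ, hφ, hr, he⟩ := id hf
  refine hf.restrict' hle fun y => ⟨fun hy => ?_, ?_⟩
  · have h1 : T ⊔ B ≤ ((T ⊔ A).subgroupOf P).map φ := by
      refine sup_le (fun t ht => ?_) (fun b hb => ?_)
      · obtain ⟨x, hx, rfl⟩ := hTT.surj (hQT.symm ▸ ht)
        exact ⟨⟨x, le_sup_left.trans hle hx⟩, Subgroup.mem_sup_left hx, he _⟩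
      · obtain ⟨x, hx, rfl⟩ := (hB b).mp hb
        exact ⟨⟨x, le_sup_right.trans hle hx⟩, Subgroup.mem_sup_right hx, he _⟩
    obtain ⟨⟨x, hxP⟩, hx, rfl⟩ := h1 hy
    exact ⟨x, hx, (he ⟨x, hxP⟩).symm⟩
  · rintro ⟨x, hx, rfl⟩
    have h2 : T ⊔ A ≤ ((T ⊔ B).comap φ).map P.subtype := by
      refine sup_le (fun t ht => ⟨⟨t, le_sup_left.trans hle ht⟩, ?_, rfl⟩)
        (fun b hb => ⟨⟨b, le_sup_right.trans hle hb⟩, ?_, rfl⟩)
      · show φ _ ∈ T ⊔ B
        rw [he]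
        exact Subgroup.mem_sup_left (hT.iso_mem hf (le_sup_left.trans hle ht) ht)
      · show φ _ ∈ T ⊔ B
        rw [he]
        exact Subgroup.mem_sup_right ((hB _).mpr ⟨b, hb, rfl⟩)
    obtain ⟨⟨z, hz⟩, hzm, rfl⟩ := h2 hx
    rw [Subgroup.subtype_apply, ← he ⟨z, hz⟩]
    exact hzm

theorem tr_fwd (hab : F.IsIso (T ⊔ A) (T ⊔ B) f) (hB : ∀ y, y ∈ B ↔ ∃ x ∈ A, f x = y) (hd : TP hc A d) :
    ∃ d', TP hc B d' ∧ ∀ x ∈ A, d' (f x) = f (d x) := by
  obtain ⟨hA, hdi⟩ := hd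
  have hBS : B ≤ S := le_sup_right.trans hab.le_right
  obtain ⟨d', hd', e⟩ := stable hc (le_sup_left : T ≤ T ⊔ A) (sup_le hc.le_S hA)
    (hTR' := (le_sup_left : T ≤ T ⊔ B)) (hR'S := sup_le hc.le_S hBS) hab hdi hB hB
  exact ⟨d', ⟨hBS, hd'⟩, e⟩

/-- Transport along maps defined on the product with `T`. -/
theorem tr_of_le (hf : F.IsIso P Q f) (hle : T ⊔ A ≤ P) (hB : ∀ y, y ∈ B ↔ ∃ x ∈ A, f x = y) : Tr hc A B f := by
  have hab := sup_image hc.closed hf hle hB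
  refine ⟨fun d hd => tr_fwd hc hab hB hd, fun d' hd' => ?_⟩
  obtain ⟨k, hk, hkl, hkr⟩ := hab.symm
  obtain ⟨d, hd, e⟩ := tr_fwd hc hk (B := A) (fun x => ⟨fun hx => ⟨f x, (hB _).mpr ⟨x, hx, rfl⟩,
    hkl x (Subgroup.mem_sup_right hx)⟩, by
      rintro ⟨y, hy, rfl⟩
      obtain ⟨x, hx, rfl⟩ := (hB y).mp hy
      rwa [hkl x (Subgroup.mem_sup_right hx)]⟩) hd'
  obtain ⟨hBS, hdi'⟩ := hd'
  refine ⟨d, hd, fun x hx => ?_⟩
  have hfx : f x ∈ B := (hB _).mpr ⟨x, hx, rfl⟩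
  have h1 := e _ hfx
  rw [hkl x (Subgroup.mem_sup_right hx)] at h1
  rw [h1, hkr _ (Subgroup.mem_sup_right (hdi'.mem hfx))]

/-- The product of the image with `T`, for a map of a product system. -/
theorem internal (hTR : T ≤ R) (hRS : R ≤ S) (hR : T ⊔ A = R) (hd : (pSys hc hTR hRS).IsIso A C d) :
    T ⊔ C = R := by
  haveI := finite_of_le hRS
  refine le_antisymm (sup_le hTR hd.le_right) ?_
  obtain ⟨φ, hφ, hr, he⟩ := id hd
  have hTc : (pSys hc hTR hRS).StronglyClosed T := ⟨hTR, fun X hX ψ hψ x =>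
    hc.closed.2 X hX ψ (pSys_le_F hc hTR hRS X hψ) x⟩
  obtain ⟨ψ, hψ, hψe⟩ := (pSys_sat hc hTR hRS).exists_congr_mod (hc.pgroup.to_le hRS) hTc hφ
  have hψr : ψ.range = R := by
    refine Subgroup.eq_of_le_of_card_ge ((pSys hc hTR hRS).range_le hψ) ?_
    rw [← Nat.card_congr (MonoidHom.ofInjective ((pSys hc hTR hRS).injective_of_mem hψ)).toEquiv, ← hR, sup_comm]
  have h1 : A ⊔ T ≤ ((T ⊔ C).comap ψ).map (A ⊔ T).subtype := by
    refine sup_le (fun x hx => ⟨⟨x, Subgroup.mem_sup_left hx⟩, ?_, rfl⟩)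
      (fun t ht => ⟨⟨t, Subgroup.mem_sup_right ht⟩, ?_, rfl⟩)
    · show ψ _ ∈ T ⊔ C
      have := (T ⊔ C).mul_mem (Subgroup.mem_sup_right (hr.le ⟨⟨x, hx⟩, rfl⟩))
        (Subgroup.mem_sup_left (T.inv_mem (hψe ⟨x, hx⟩)))
      simpa using this
    · exact Subgroup.mem_sup_left (hTc.apply_mem_of_mem hψ ht)
  intro y hy
  rw [← hψr] at hy
  obtain ⟨z, rfl⟩ := hy
  obtain ⟨z', hz', hzz⟩ := h1 z.2
  exact Subtype.ext hzz ▸ hz'

/-- Transport along maps of the product system over the product with `T`. -/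
theorem tr_inner (hA : A ≤ S) (hd : (pSys hc (le_sup_left : T ≤ T ⊔ A) (sup_le hc.le_S hA)).IsIso A C d) :
    Tr hc A C d := by
  have hC := internal hc le_sup_left (sup_le hc.le_S hA) rfl hd
  have hCS : C ≤ S := (le_sup_right.trans hC.le).trans (sup_le hc.le_S hA)
  obtain ⟨k, hk, hkl, hkr⟩ := hd.symm
  refine ⟨fun d₀ hd₀ => ?_, fun d₁ hd₁ => ?_⟩
  · obtain ⟨_, hd₀⟩ := hd₀
    refine ⟨fun y => d (d₀ (k y)), ⟨hCS, ((hk.comp hd₀).comp hd).mono
      (pSys_mono hc le_sup_left (sup_le hc.le_S hA) hC.ge)⟩, fun x hx => ?_⟩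
    show d (d₀ (k (d x))) = _
    rw [hkl x hx]
  · obtain ⟨_, hd₁⟩ := hd₁
    have hd₁' := hd₁.mono (pSys_mono hc le_sup_left (sup_le hc.le_S hCS)
      (hTR' := (le_sup_left : T ≤ T ⊔ A)) (hR'S := sup_le hc.le_S hA) hC.le)
    refine ⟨fun x => k (d₁ (d x)), ⟨hA, (hd.comp hd₁').comp hk⟩, fun x hx => ?_⟩
    exact (hkr _ (hd₁'.mem (hd.mem hx))).symm

/-- Transport along maps of a product system. -/
theorem tr_pSys (hTR : T ≤ R) (hRS : R ≤ S) (hA : A ≤ P) (hf : (pSys hc hTR hRS).IsIso P Q f)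
    (hB : ∀ y, y ∈ B ↔ ∃ x ∈ A, f x = y) : Tr hc A B f := by
  have hAR : A ≤ R := hA.trans hf.le_left
  have hAS := hAR.trans hRS
  have hf' := hf.restrict' hA hB
  obtain ⟨r, hr, d, C, hd, hde⟩ := split hc (R' := T ⊔ A) (hTR' := le_sup_left)
    (hR'S := sup_le hc.le_S hAS) R hTR hRS (sup_le hTR hAR) A B f le_sup_right hf'
  have hCR : T ⊔ C ≤ S := (internal hc le_sup_left (sup_le hc.le_S hAS) rfl hd).le.trans (sup_le hc.le_S hAS)
  refine (((tr_inner hc hAS hd)).comp hc (hd.mono (pSys_le_F hc _ _))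
    (tr_of_le hc (isIso_conj le_rfl (hRS hr)) hCR (B := B) fun y => ?_)).congr hc hde
  rw [hB]
  constructor
  · rintro ⟨x, hx, rfl⟩
    exact ⟨d x, hd.mem hx, (hde x hx).symm⟩
  · rintro ⟨z, hz, rfl⟩
    obtain ⟨x, hx, rfl⟩ := hd.surj hz
    exact ⟨x, hx, hde x hx⟩

omit hc in
/-- The maps transporting the product systems. -/
def trSys (hc : Setup F p E) : FusionSystem S where
  Hom P := {φ | φ ∈ F.Hom P ∧ ∀ A B : Subgroup Ω, A ≤ P → (∀ y, y ∈ B ↔ ∃ x ∈ A, funOf φ x = y) →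
    Tr hc A B (funOf φ)}
  le_of_mem h := F.le_of_mem h.1
  injective_of_mem h := F.injective_of_mem h.1
  conj_mem := by
    intro P s hP hs
    refine ⟨F.conj_mem hP hs, fun A B hA hB => ?_⟩
    have he : ∀ x ∈ A, funOf (conjHom P s) x = s * x * s⁻¹ := fun x hx =>
      (funOf_apply (conjHom P s) ⟨x, hA hx⟩).symm
    refine (tr_of_le hc (isIso_conj le_rfl hs) (sup_le hc.le_S (hA.trans hP)) fun y => ?_).congr hc he
    rw [hB]
    exact ⟨fun ⟨x, hx, e⟩ => ⟨x, hx, (he x hx).symm.trans e⟩, fun ⟨x, hx, e⟩ => ⟨x, hx, (he x hx).trans e⟩⟩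
  comp_mem := by
    intro P Q φ ψ hφ hψ h
    refine ⟨F.comp_mem hφ.1 hψ.1 h, fun A B hA hB => ?_⟩
    have he : ∀ x ∈ A, funOf (ψ.comp (φ.codRestrict Q h)) x = funOf ψ (funOf φ x) := fun x hx => by
      rw [← funOf_apply (ψ.comp (φ.codRestrict Q h)) ⟨x, hA hx⟩, ← funOf_apply φ ⟨x, hA hx⟩]
      exact funOf_apply ψ ⟨φ ⟨x, hA hx⟩, h _⟩
    obtain ⟨A', hA', -, hA'm⟩ := (isIso_funOf hφ.1).restrict hA
    have hA'Q : A' ≤ Q := fun y hy => by
      obtain ⟨x, hx, rfl⟩ := (hA'm y).mp hy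
      rw [← funOf_apply φ ⟨x, hA hx⟩]
      exact h _
    refine ((hφ.2 A A' hA hA'm).comp hc hA' (hψ.2 A' B hA'Q fun y => ?_)).congr hc he
    rw [hB]
    constructor
    · rintro ⟨x, hx, rfl⟩
      exact ⟨funOf φ x, (hA'm _).mpr ⟨x, hx, rfl⟩, (he x hx).symm⟩
    · rintro ⟨z, hz, rfl⟩
      obtain ⟨x, hx, rfl⟩ := (hA'm z).mp hz
      exact ⟨x, hx, he x hx⟩
  inv_mem := by
    intro P φ hφ
    obtain ⟨ψ, hψ, he⟩ := F.inv_mem hφ.1
    refine ⟨ψ, ⟨hψ, fun A B hA hB => ?_⟩, he⟩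
    have hk : ∀ x ∈ P, funOf ψ (funOf φ x) = x := fun x hx => by
      rw [← funOf_apply φ ⟨x, hx⟩]
      exact (funOf_apply ψ ⟨φ ⟨x, hx⟩, ⟨x, hx⟩, rfl⟩).symm.trans (he _)
    have hBP : B ≤ P := fun y hy => by
      obtain ⟨z, hz, rfl⟩ := (hB y).mp hy
      obtain ⟨x, rfl⟩ := hA hz
      rw [funOf_apply φ x, hk x x.2]
      exact x.2
    have hi := (isIso_funOf hφ.1).restrict' hBP (R' := A) fun y => ?_
    · refine (hφ.2 B A hBP fun y => ?_).symm hc hi fun x hx => hk x (hBP hx)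
      exact ⟨fun hy => hi.surj hy, fun ⟨x, hx, e⟩ => e ▸ hi.mem hx⟩
    constructor
    · intro hy
      obtain ⟨x, hxy⟩ := hA hy
      refine ⟨x, (hB _).mpr ⟨y, hy, ?_⟩, by rw [← funOf_apply φ x, hxy]⟩
      rw [← hxy, funOf_apply φ x, hk x x.2]
    · rintro ⟨x, hx, rfl⟩
      obtain ⟨z, hz, rfl⟩ := (hB x).mp hx
      obtain ⟨w, rfl⟩ := hA hz
      rw [funOf_apply φ w, hk w w.2, ← funOf_apply φ w]
      exact hz

theorem mem_trSys {φ : P →* Ω} (hf : F.IsIso P Q f) (he : ∀ x : P, φ x = f x)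
    (h : ∀ A B : Subgroup Ω, A ≤ P → (∀ y, y ∈ B ↔ ∃ x ∈ A, f x = y) → Tr hc A B f) :
    φ ∈ (trSys hc).Hom P := by
  refine ⟨mem_hom_of_isIso hf he, fun A B hA hB => ?_⟩
  have e : ∀ x ∈ A, funOf φ x = f x := fun x hx => (funOf_apply φ ⟨x, hA hx⟩).symm.trans (he ⟨x, hA hx⟩)
  refine (h A B hA fun y => ?_).congr hc e
  rw [hB]
  exact ⟨fun ⟨x, hx, q⟩ => ⟨x, hx, (e x hx).symm.trans q⟩, fun ⟨x, hx, q⟩ => ⟨x, hx, (e x hx).trans q⟩⟩

theorem aut_trSys (hP : P ≤ S) {α : MulAut P} (hα : α ∈ F.autGroup P) (hf : F.IsIso P P f)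
    (hfe : ∀ x : P, ((α x : P) : Ω) = f x)
    (h : ∀ A B : Subgroup Ω, A ≤ P → (∀ y, y ∈ B ↔ ∃ x ∈ A, f x = y) → Tr hc A B f) :
    α ∈ (trSys hc).autGroup P :=
  (trSys hc).mem_autGroup_of_map (mem_trSys hc (φ := P.subtype.comp α.toMonoidHom) hf hfe h) fun _ => rfl

/-- All maps transport the product systems. -/
theorem le_trSys : F ≤ trSys hc := by
  classical
  have hS := hc.pgroup
  refine hc.sat.le_of_autGroup_le' hS _ fun P hP hbig => ?_
  have hPS : P ≤ S := by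
    rcases hP with rfl | hP
    · exact le_rfl
    · exact hP.1.1
  intro α hα
  obtain ⟨f, hf, hfe⟩ := isIso_of_aut hPS hα
  by_cases hTP : T ≤ P
  · exact aut_trSys hc hPS hα hf hfe fun A B hA hB => tr_of_le hc hf (sup_le hTP hA) hB
  replace hP : F.IsEssential p P := hP.resolve_left fun e => hTP (e ▸ hc.le_S)
  haveI := finite_autGroup (F := F) hPS
  haveI := finite_of_le hPS
  haveI := hc.finT
  have hU : E.IsCentric (P ⊓ T) := by
    by_contra h
    exact (exists_conj_outer_pCore hS hc.sat hc.sub hc.closed hP.1 h).2 (hP.isRadical hS hc.sat)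
  have hfn := hP.2.1
  obtain ⟨-, W, hW⟩ := hc.sat.isFullyAutomized_of_isFullyNormalized hS hfn
  have hrec := hc.sat.isReceptive_of_isFullyNormalized hS hfn
  -- automorphisms in `E` modulo `T`
  let L : Subgroup (F.autGroup P) :=
    { carrier := {β | (∀ x : P, (x : Ω)⁻¹ * ((β : MulAut P) x : P) ∈ T) ∧
        ∃ e, E.IsIso (P ⊓ T) (P ⊓ T) e ∧ ∀ x : P, (x : Ω) ∈ T → (((β : MulAut P) x : P) : Ω) = e x}
      one_mem' := ⟨fun x => by simp, _, IsIso.refl E inf_le_right, fun x _ => rfl⟩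
      mul_mem' := by
        rintro a b ⟨ha, e, he, hea⟩ ⟨hb, e', he', heb⟩
        refine ⟨fun x => ?_, _, he'.comp he, fun x hx => ?_⟩
        · have h1 := T.mul_mem (hb x) (ha ((b : MulAut P) x))
          simpa [MulAut.mul_apply, mul_assoc] using h1
        · show (((a : MulAut P) ((b : MulAut P) x) : P) : Ω) = e (e' x)
          have h1 : (((b : MulAut P) x : P) : Ω) ∈ T := by
            rw [heb x hx]; exact (he'.mem ⟨x.2, hx⟩).2
          rw [hea _ h1, heb x hx]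
      inv_mem' := by
        rintro a ⟨ha, e, he, hea⟩
        obtain ⟨k, hk, hkl, -⟩ := he.symm
        refine ⟨fun x => ?_, k, hk, fun x hx => ?_⟩
        · have h1 := T.inv_mem (ha ((a : MulAut P)⁻¹ x))
          simpa [mul_assoc] using h1
        · have h0 := ha ((a : MulAut P)⁻¹ x)
          rw [MulAut.apply_inv_self] at h0
          have hy : (((a : MulAut P)⁻¹ x : P) : Ω) ∈ T := by
            have := T.mul_mem hx (T.inv_mem h0)
            rwa [mul_inv_rev, inv_inv, mul_inv_cancel_left] at this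
          have h1 := hea _ hy
          rw [MulAut.apply_inv_self] at h1
          show (((a : MulAut P)⁻¹ x : P) : Ω) = k x
          rw [h1]
          exact (hkl _ ⟨SetLike.coe_mem _, hy⟩).symm }
  have hLn : L.Normal := by
    refine ⟨fun b hb γ => ?_⟩
    obtain ⟨g, hg, hge⟩ := isIso_of_aut hPS γ.2
    obtain ⟨hb1, e, he, heb⟩ := hb
    obtain ⟨e', he', he'e⟩ := hc.inv.iso_transport (inter_iso hc.closed hg) inf_le_right he le_rfl le_rfl
      (inter_image hc.closed hg) (inter_image hc.closed hg)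
    have key : ∀ y : P, ((((γ * b * γ⁻¹ : F.autGroup P) : MulAut P) y : P) : Ω) =
        g (((b : MulAut P) ((γ : MulAut P)⁻¹ y) : P) : Ω) := fun y => hge _
    refine ⟨fun y => ?_, e', he', fun y hy => ?_⟩
    · rw [key]
      have hy' : (y : Ω) = g (((γ : MulAut P)⁻¹ y : P) : Ω) := by rw [← hge, MulAut.apply_inv_self]
      rw [hy', ← hg.apply_inv (SetLike.coe_mem _), ← hg.apply_mul (P.inv_mem (SetLike.coe_mem _)) (SetLike.coe_mem _)]
      exact hc.closed.iso_mem hg (P.mul_mem (P.inv_mem (SetLike.coe_mem _)) (SetLike.coe_mem _)) (hb1 _)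
    · rw [key]
      have hy' : (y : Ω) = g (((γ : MulAut P)⁻¹ y : P) : Ω) := by rw [← hge, MulAut.apply_inv_self]
      obtain ⟨z, hz, hze⟩ := (inter_image hc.closed hg _).mp (⟨y.2, hy⟩ : (y : Ω) ∈ P ⊓ T)
      have hzy : z = (((γ : MulAut P)⁻¹ y : P) : Ω) := hg.inj hz.1 (SetLike.coe_mem _) (hze.trans hy')
      rw [← hze, he'e z hz, heb ⟨((γ : MulAut P)⁻¹ y : P), SetLike.coe_mem _⟩ (hzy ▸ hz.2)]
      rw [hzy]
  -- a Sylow subgroup of `L` inside `Aut_S(P)`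
  obtain ⟨V, hV⟩ := ((W.2.to_le (inf_le_left : (W : Subgroup (F.autGroup P)) ⊓ L ≤ W)).of_equiv
    (Subgroup.subgroupOfEquivOfLe inf_le_right).symm).exists_le_sylow
  have hVmap : (V : Subgroup L).map L.subtype = (W : Subgroup (F.autGroup P)) ⊓ L := by
    symm
    have h1 : (W : Subgroup (F.autGroup P)) ⊓ L ≤ (V : Subgroup L).map L.subtype :=
      fun x hx => ⟨⟨x, hx.2⟩, hV hx, rfl⟩
    obtain ⟨a, ha⟩ := exists_conj_mem_sylow W (V.2.map L.subtype)
    refine Subgroup.eq_of_le_of_card_ge h1 ?_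
    refine le_trans (le_of_eq (Subgroup.card_map_of_injective (f := (MulAut.conj a : (F.autGroup P) ≃* _).toMonoidHom)
      (MulEquiv.injective (MulAut.conj a))).symm)
      (Subgroup.card_le_of_le ?_)
    rintro _ ⟨x, hx, rfl⟩
    refine ⟨ha x hx, ?_⟩
    obtain ⟨y, -, rfl⟩ := hx
    exact hLn.conj_mem _ y.2 a
  have hWle : (W : Subgroup (F.autGroup P)) ≤ ((trSys hc).autGroup P).subgroupOf (F.autGroup P) := by
    rw [hW]
    exact fun x hx => autInducedBy_le_autGroup hPS hx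
  have hLle : L ≤ ((trSys hc).autGroup P).subgroupOf (F.autGroup P) := by
    have h1 : (⊤ : Subgroup L) ≤
        (((trSys hc).autGroup P).subgroupOf (F.autGroup P)).subgroupOf L := by
      rw [← CfsgLib.Transfer.sylow_sup_pResidual V]
      refine sup_le (fun x hx => hWle (hVmap.le ⟨x, hx, rfl⟩).1) ?_
      refine (Subgroup.closure_le _).mpr fun γ hγ => ?_
      obtain ⟨g, hg, hge⟩ := isIso_of_aut hPS (γ : F.autGroup P).2
      obtain ⟨hb1, e, he, heb⟩ := γ.2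
      have hper : PerPrime p P g :=
        perPrime_of_coprime hge (by rw [Subgroup.orderOf_coe, Subgroup.orderOf_coe]; exact hγ)
      have hgen : IsGen F p E P g := ⟨hg, hper, fun x hx => by
        have := hb1 ⟨x, hx⟩
        rwa [hge] at this, hU, he.congr fun x hx => by
        have := heb ⟨x, hx.1⟩ hx.2
        rwa [hge] at this⟩
      have hgp := pSys_per hc (le_sup_left : T ≤ T ⊔ P) (sup_le hc.le_S hPS) le_sup_right
        (hasGens_prodSys hc P g hgen) hper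
      exact aut_trSys hc hPS (γ : F.autGroup P).2 hg hge fun A B hA hB => tr_pSys hc _ _ hA hgp hB
    exact fun x hx => h1 (Subgroup.mem_top (⟨x, hx⟩ : L))
  suffices h : (⊤ : Subgroup (F.autGroup P)) ≤ ((trSys hc).autGroup P).subgroupOf (F.autGroup P) from
    h (Subgroup.mem_top (⟨α, hα⟩ : F.autGroup P))
  haveI := hLn
  rw [← V.normalizer_sup_eq_top, hVmap]
  refine sup_le (fun γ hγ => ?_) hLle
  -- extension of the normaliser
  let M : Subgroup Ω :=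
    { carrier := {s | s ∈ S ∧ ∃ hs : s ∈ Subgroup.normalizer (P : Set Ω),
        ∃ b : F.autGroup P, b ∈ L ∧ (b : MulAut P) = P.normalizerMonoidHom ⟨s, hs⟩}
      one_mem' := ⟨S.one_mem, Subgroup.one_mem _, 1, L.one_mem, by
        rw [show (⟨1, Subgroup.one_mem _⟩ : ↥(Subgroup.normalizer (P : Set Ω))) = 1 from rfl, map_one]; rfl⟩
      mul_mem' := by
        rintro s t ⟨hs, hsN, b, hb, hbe⟩ ⟨ht, htN, c, hcL, hce⟩
        refine ⟨S.mul_mem hs ht, Subgroup.mul_mem _ hsN htN, b * c, L.mul_mem hb hcL, ?_⟩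
        rw [show (⟨s * t, Subgroup.mul_mem _ hsN htN⟩ : ↥(Subgroup.normalizer (P : Set Ω))) =
          ⟨s, hsN⟩ * ⟨t, htN⟩ from rfl, map_mul, Subgroup.coe_mul, hbe, hce]
      inv_mem' := by
        rintro s ⟨hs, hsN, b, hb, hbe⟩
        refine ⟨S.inv_mem hs, Subgroup.inv_mem _ hsN, b⁻¹, L.inv_mem hb, ?_⟩
        rw [show (⟨s⁻¹, Subgroup.inv_mem _ hsN⟩ : ↥(Subgroup.normalizer (P : Set Ω))) =
          ⟨s, hsN⟩⁻¹ from rfl, map_inv, Subgroup.coe_inv, hbe] }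
  have hM : M ≤ normalizerIn S P := fun s hs => ⟨hs.1, hs.2.1⟩
  obtain ⟨ψ, hψ, hψe⟩ := exists_extension_of_normalizes hrec γ.2 hM (by
    rintro s ⟨hsS, hsN', b, hb, hbe⟩ hsN
    have hbW : b ∈ (W : Subgroup (F.autGroup P)) ⊓ L :=
      ⟨hW.ge (Subgroup.mem_subgroupOf.mpr (mem_autInducedBy_iff.mpr ⟨s, hsS, hsN, fun x => by
        show (((b : MulAut P) x : P) : Ω) = _
        rw [hbe]; rfl⟩)), hb⟩
    have h1 := hW.le ((Subgroup.mem_normalizer_iff.mp hγ b).mp hbW).1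
    rw [Subgroup.mem_subgroupOf, Subgroup.coe_mul, Subgroup.coe_mul, Subgroup.coe_inv, hbe] at h1
    exact h1)
  have hPM : P < P ⊔ M := by
    refine lt_of_le_of_ne le_sup_left fun e => ?_
    have hle : P ⊔ T ≤ S := sup_le hPS hc.le_S
    have hlt : P < P ⊔ T := lt_of_le_of_ne le_sup_left fun e => hTP (le_sup_right.trans e.ge)
    haveI := finite_of_le hle
    obtain ⟨w, hw, hwP⟩ := SetLike.exists_of_lt (lt_normalizerIn (hS.to_le hle) hlt)
    have hw1 : w ∈ (↑(P ⊔ T) : Set Ω) := hw.1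
    rw [Subgroup.coe_mul_of_left_le_normalizer_right P T (hPS.trans hc.closed.le_normalizer)] at hw1
    obtain ⟨r, hr, t, ht, rfl⟩ := hw1
    have htN : t ∈ Subgroup.normalizer (P : Set Ω) := by
      have := Subgroup.mul_mem _ (Subgroup.inv_mem _
        (Subgroup.le_normalizer hr : r ∈ Subgroup.normalizer (P : Set Ω))) hw.2
      simpa [mul_assoc] using this
    refine hwP (P.mul_mem hr (e.ge (Subgroup.mem_sup_right ⟨hc.le_S ht, htN,
      ⟨P.normalizerMonoidHom ⟨t, htN⟩, autInducedBy_le_autGroup hPS (mem_autInducedBy_iff.mpr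
        ⟨t, hc.le_S ht, htN, fun _ => rfl⟩)⟩, ⟨fun x => ?_, fun y => t * y * t⁻¹, ?_, fun x _ => rfl⟩, rfl⟩)))
    · show (x : Ω)⁻¹ * (t * x * t⁻¹) ∈ T
      have := T.mul_mem (hc.conj_mem' (hPS x.2) ht) (T.inv_mem ht)
      simpa [mul_assoc] using this
    · refine isIso_self (isIso_conj (P := T) le_rfl ht) inf_le_right fun x hx => ?_
      exact ⟨(Subgroup.mem_normalizer_iff.mp htN x).mp hx.1, T.mul_mem (T.mul_mem ht hx.2) (T.inv_mem ht)⟩
  haveI : Finite ↥(P ⊔ M : Subgroup Ω) := finite_of_le (sup_le hPS (hM.trans normalizerIn_le))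
  exact (trSys hc).mem_autGroup_of_map ((trSys hc).restrict_mem (hbig _ (Family.card_lt_of_lt hPM) hψ) le_sup_left)
    fun x => (hψe x).symm

/-- Periodic automorphisms in the product system are transported by all isomorphisms. -/
theorem prodSys_transport (hχ : F.IsIso A B g) (hf : (prodSys hc).IsIso A A f) (hper : PerPrime p A f) :
    ∃ f', (prodSys hc).IsIso B B f' ∧ PerPrime p B f' ∧ ∀ x ∈ A, f' (g x) = g (f x) := by
  obtain ⟨φ, hφ, hr, he⟩ := id hχ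
  have h1 := (le_trSys hc A hφ).2 A B le_rfl fun y => by
    constructor
    · intro hy
      obtain ⟨x, hx, rfl⟩ := hχ.surj hy
      exact ⟨x, hx, (funOf_apply φ ⟨x, hx⟩).symm.trans (he ⟨x, hx⟩)⟩
    · rintro ⟨x, hx, rfl⟩
      rw [← funOf_apply φ ⟨x, hx⟩, he]
      exact hχ.mem hx
  have hA := hχ.le_left
  obtain ⟨d', ⟨hB, hd'⟩, e⟩ := h1.1 f ⟨hA, pSys_per hc le_sup_left (sup_le hc.le_S hA) le_sup_right hf hper⟩
  have e' : ∀ x ∈ A, d' (g x) = g (f x) := fun x hx => by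
    have h2 := e x hx
    rwa [← funOf_apply φ ⟨x, hx⟩, he, ← funOf_apply φ ⟨f x, hf.mem hx⟩, he] at h2
  exact ⟨d', hd'.mono (pSys_sub hc _ _), hper.transport (fun x hx => hf.mem hx) e' fun y hy => hχ.surj hy, e'⟩

end Cfsg.FusionSystem.Balance
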